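import Cfsg.Agent.Lib.Classical.SympMatrixSimple
import Cfsg.Prelude.Def_LieTypeDatum

set_option autoImplicit false
set_option linter.unusedSectionVars false

/-! The action of `PSp_{2m}` on the points of the projective space and stabilisers of subspaces. -/

namespace CfsgLib.KnownC.AutPSp

open Projectivization Matrix MulAction CfsgLib.Classical

variable {F : Type*} [Field F] {m : ℕ}

/-- The natural module. -/
abbrev Vec (F : Type*) [Field F] (m : ℕ) : Type _ := Fin m ⊕ Fin m → F

/-- The points. -/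
abbrev Pt (F : Type*) [Field F] (m : ℕ) : Type _ := Projectivization F (Vec F m)

local notation "Spm" => Matrix.symplecticGroup (Fin m) F
local notation "PSpm" => Cfsg.PSp m F
local notation "𝕄" s => (s : Matrix (Fin m ⊕ Fin m) (Fin m ⊕ Fin m) F)

theorem sp_ne_zero (s : Spm) {v : Vec F m} (hv : v ≠ 0) : (𝕄 s) *ᵥ v ≠ 0 := fun h => hv (by
  have := congrArg (fun x => (𝕄 (s⁻¹ : Spm)) *ᵥ x) h
  simpa [Matrix.mulVec_mulVec, sp_inv_mul] using this)

theorem sp_injective (s : Spm) : Function.Injective (Matrix.toLin' (𝕄 s)) := by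
  rw [← LinearMap.ker_eq_bot, Submodule.eq_bot_iff]
  intro x hx
  by_contra h0
  exact sp_ne_zero s h0 hx

theorem mk_congr {v w : Vec F m} (hv : v ≠ 0) (hw : w ≠ 0) (a : F) (h : a • w = v) :
    Projectivization.mk F v hv = Projectivization.mk F w hw := (mk_eq_mk_iff' F v w hv hw).2 ⟨a, h⟩

/-- The action of the symplectic group on points. -/
noncomputable def ptHom0 : Spm →* Equiv.Perm (Pt F m) where
  toFun s := MulAction.toPerm (spGLEquiv m s)
  map_one' := by ext P; simp
  map_mul' s t := by ext P; simp [mul_smul]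

theorem ptHom0_mk (s : Spm) {v : Vec F m} (hv : v ≠ 0) :
    ptHom0 s (Projectivization.mk F v hv) = Projectivization.mk F ((𝕄 s) *ᵥ v) (sp_ne_zero s hv) := rfl

theorem center_le_ker : Subgroup.center Spm ≤ (ptHom0 (F := F) (m := m)).ker := by
  intro s hs
  rw [MonoidHom.mem_ker]
  refine Equiv.ext fun P => ?_
  induction P using Projectivization.ind with
  | _ v hv =>
    rw [ptHom0_mk]
    rcases sp_center_eq m hs with h | h
    · exact mk_congr _ _ 1 (by rw [h, Matrix.one_mulVec, one_smul])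
    · exact mk_congr _ _ (-1) (by rw [h, Matrix.neg_mulVec, Matrix.one_mulVec, neg_one_smul])

/-- The action of the quotient on points. -/
noncomputable def ptHom : PSpm →* Equiv.Perm (Pt F m) := QuotientGroup.lift _ ptHom0 center_le_ker

noncomputable instance ptAction : MulAction (Cfsg.PSp m F) (Pt F m) := MulAction.compHom _ (ptHom (F := F) (m := m))

theorem psp_smul_mk (s : Spm) {v : Vec F m} (hv : v ≠ 0) :
    (QuotientGroup.mk s : PSpm) • Projectivization.mk F v hv =
      Projectivization.mk F ((𝕄 s) *ᵥ v) (sp_ne_zero s hv) := rfl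

theorem form_mulVec (s : Spm) (u v : Vec F m) :
    sympBil F m ((𝕄 s) *ᵥ u) ((𝕄 s) *ᵥ v) = sympBil F m u v := by
  rw [sympBil_apply, sympBil_apply]
  exact (mem_symplecticGroup_iff_preserves m).1 s.2 u v

theorem scalar_mem_center {s : Spm} (c : F) (h : ∀ v, (𝕄 s) *ᵥ v = c • v) : s ∈ Subgroup.center Spm := by
  refine Subgroup.mem_center_iff.2 fun t => Subtype.ext (Matrix.ext_iff_mulVec.2 fun v => ?_)
  show ((𝕄 t) * (𝕄 s)) *ᵥ v = ((𝕄 s) * (𝕄 t)) *ᵥ v
  rw [← Matrix.mulVec_mulVec, ← Matrix.mulVec_mulVec, h, h, Matrix.mulVec_smul]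

/-- A linear map having every vector as eigenvector is scalar. -/
theorem eigen_all {V : Type*} [AddCommGroup V] [Module F V] (T : V →ₗ[F] V)
    (h : ∀ v, ∃ c : F, T v = c • v) : ∃ c : F, ∀ v, T v = c • v := by
  rcases subsingleton_or_nontrivial V with hV | hV
  · exact ⟨0, fun v => Subsingleton.elim _ _⟩
  obtain ⟨u, hu⟩ := exists_ne (0 : V)
  obtain ⟨c, hc⟩ := h u
  refine ⟨c, fun v => ?_⟩
  obtain ⟨d, hd⟩ := h v
  rcases eq_or_ne v 0 with rfl | hv
  · simp
  by_cases hdep : ∃ a : F, v = a • u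
  · obtain ⟨a, rfl⟩ := hdep
    rw [map_smul, hc, smul_comm]
  push Not at hdep
  obtain ⟨e, he⟩ := h (u + v)
  rw [map_add, hc, hd, smul_add] at he
  have h1 : (d - e) • v = (e - c) • u := by
    rw [sub_smul, sub_smul, sub_eq_sub_iff_add_eq_add, add_comm, he]
  rcases eq_or_ne d e with rfl | hde
  · rw [sub_self, zero_smul, eq_comm, smul_eq_zero, sub_eq_zero] at h1
    rw [hd, h1.resolve_right hu]
  · exact absurd (by rw [← smul_smul, ← h1, inv_smul_smul₀ (sub_ne_zero.2 hde)] :
      v = ((d - e)⁻¹ * (e - c)) • u) (hdep _)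

theorem mem_center_of_fix {s : Spm} (h : ∀ P : Pt F m, (QuotientGroup.mk s : PSpm) • P = P) :
    s ∈ Subgroup.center Spm := by
  obtain ⟨c, hc⟩ := eigen_all (Matrix.toLin' (𝕄 s)) fun v => by
    rcases eq_or_ne v 0 with rfl | hv
    · exact ⟨0, by simp⟩
    have := h (Projectivization.mk F v hv)
    rw [psp_smul_mk] at this
    obtain ⟨c, hc⟩ := (mk_eq_mk_iff' F _ _ _ _).1 this
    exact ⟨c, by rw [Matrix.toLin'_apply, hc]⟩
  exact scalar_mem_center c hc

theorem psp_faithful {x : PSpm} (h : ∀ P : Pt F m, x • P = P) : x = 1 := by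
  induction x using QuotientGroup.induction_on with
  | _ s => exact (QuotientGroup.eq_one_iff s).2 (mem_center_of_fix h)

theorem psp_ext {x y : PSpm} (h : ∀ P : Pt F m, x • P = y • P) : x = y :=
  inv_mul_eq_one.1 (psp_faithful fun P => by rw [mul_smul, ← h, inv_smul_smul]) |>.symm.symm

instance pretransitive : IsPretransitive (Cfsg.PSp m F) (Pt F m) := by
  constructor
  intro P Q
  induction P using Projectivization.ind with | _ u hu => ?_
  induction Q using Projectivization.ind with | _ w hw => ?_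
  obtain ⟨A, hA⟩ := sp_transitive m hu hw
  exact ⟨QuotientGroup.mk A, by rw [psp_smul_mk]; exact mk_congr _ _ 1 (by rw [one_smul, hA])⟩

theorem primitive : IsPreprimitive (Cfsg.PSp m F) (Pt F m) := by
  let φ : isomGroup (sympBil F m) → PSpm := fun g => QuotientGroup.mk ((spEquiv m).symm g)
  have hφ : Function.Surjective φ :=
    QuotientGroup.mk_surjective.comp (spEquiv (F := F) m).symm.surjective
  let f : (Pt F m) →ₑ[φ] (Pt F m) :=
    { toFun := id
      map_smul' := fun g p => by
        induction p using Projectivization.ind with | h v hv => ?_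
        obtain ⟨A, rfl⟩ := (spEquiv (F := F) m).surjective g
        simp only [id_eq, isom_smul_mk, φ, MulEquiv.symm_apply_apply, psp_smul_mk, spEquiv_apply] }
  exact (MulAction.isPreprimitive_congr (φ := φ) (f := f) hφ Function.bijective_id).1
    (isom_isPreprimitive (sympBil_isAlt m) (sympBil_nondegenerate m))

/-- The stabiliser of a subspace in the symplectic group. -/
def spStab (W : Submodule F (Vec F m)) : Subgroup Spm where
  carrier := {s | W.map (Matrix.toLin' (𝕄 s)) = W}
  one_mem' := by simp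
  mul_mem' {s t} (hs : _ = _) (ht : _ = _) := by
    show W.map (Matrix.toLin' ((𝕄 s) * (𝕄 t))) = W
    rw [Matrix.toLin'_mul, Submodule.map_comp, ht, hs]
  inv_mem' {s} (hs : _ = _) := by
    show W.map (Matrix.toLin' (𝕄 (s⁻¹ : Spm))) = W
    conv_lhs => rw [← hs, ← Submodule.map_comp, ← Matrix.toLin'_mul, sp_inv_mul, Matrix.toLin'_one]
    simp

/-- Its image in the quotient. -/
def stabSub (W : Submodule F (Vec F m)) : Subgroup PSpm := (spStab W).map (QuotientGroup.mk' _)

theorem mk_mem_stabSub_iff (W : Submodule F (Vec F m)) (s : Spm) :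
    (QuotientGroup.mk s : PSpm) ∈ stabSub W ↔ W.map (Matrix.toLin' (𝕄 s)) = W := by
  refine ⟨fun h => ?_, fun h => ⟨s, h, rfl⟩⟩
  obtain ⟨t, ht, e⟩ := h
  have hc : t⁻¹ * s ∈ Subgroup.center Spm := QuotientGroup.eq.1 e
  have hz : W.map (Matrix.toLin' (𝕄 (t⁻¹ * s : Spm))) = W := by
    rcases sp_center_eq m hc with h | h <;> rw [h]
    · simp
    · rw [map_neg, Matrix.toLin'_one]
      ext x
      simp [Submodule.mem_map]
  have h2 : t * (t⁻¹ * s) ∈ spStab W := mul_mem ht hz
  rwa [mul_inv_cancel_left] at h2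

end CfsgLib.KnownC.AutPSp
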