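import Cfsg.Agent.Lib.KnownC.AutPSp.Descent
import Cfsg.Agent.S0247

set_option autoImplicit false
set_option linter.unusedSectionVars false

/-! Local balance for field automorphisms of `PSp_{2m}`. -/

namespace CfsgLib.KnownC.AutPSp

open Projectivization Matrix MulAction CfsgLib.Classical

variable {F : Type*} [Field F] {m : ℕ}

local notation "Spm" => Matrix.symplecticGroup (Fin m) F
local notation "PSpm" => Cfsg.PSp m F
local notation "GSpm" => Cfsg.GSp m F
local notation "Vm" => Vec F m
local notation "𝕄" s => (s : Matrix (Fin m ⊕ Fin m) (Fin m ⊕ Fin m) F)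

theorem perm_center {g : Equiv.Perm (Fin 6)} (h : ∀ k, k * g = g * k) : g = 1 := by
  refine Equiv.ext fun a => ?_
  by_contra hne
  obtain ⟨c, hc⟩ : ∃ c : Fin 6, c ∉ ({a, g a} : Finset (Fin 6)) := by
    by_contra hall
    push Not at hall
    have h1 := Finset.card_le_card (s := Finset.univ) (t := ({a, g a} : Finset (Fin 6))) fun c _ => hall c
    have h2 := (Finset.card_le_two : ({a, g a} : Finset (Fin 6)).card ≤ 2)
    simp at h1
    omega
  simp only [Finset.mem_insert, Finset.mem_singleton, not_or] at hc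
  have h1 := congrArg (fun e : Equiv.Perm (Fin 6) => e a) (h (Equiv.swap (g a) c))
  simp only [Equiv.Perm.mul_apply, Equiv.swap_apply_left] at h1
  rw [Equiv.swap_apply_of_ne_of_ne (fun e => hne (by simpa using e.symm)) (Ne.symm hc.1)] at h1
  exact hc.2 h1

/-- A nontrivial normal subgroup of `S₆` has index at most two. -/
theorem perm_six_normal (M : Subgroup (Equiv.Perm (Fin 6))) (hM : M.Normal) : M = ⊥ ∨ M.index ≤ 2 := by
  have hA : IsSimpleGroup (alternatingGroup (Fin 6)) := alternatingGroup.isSimpleGroup (by simp)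
  have hn : (M.subgroupOf (alternatingGroup (Fin 6))).Normal := inferInstance
  rcases hn.eq_bot_or_eq_top with h | h
  · left
    rw [Subgroup.subgroupOf_eq_bot, disjoint_iff] at h
    rw [eq_bot_iff]
    intro g hg
    rw [Subgroup.mem_bot]
    refine perm_center fun k => ?_
    have h1 : k * g * k⁻¹ * g⁻¹ ∈ M ⊓ alternatingGroup (Fin 6) :=
      Subgroup.mem_inf.2 ⟨mul_mem (hM.conj_mem g hg k) (inv_mem hg), by
        show Equiv.Perm.sign _ = 1
        rw [map_mul, map_mul, map_mul, map_inv, map_inv, mul_right_comm _ _ (Equiv.Perm.sign k)⁻¹, mul_inv_cancel,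
          one_mul, mul_inv_cancel]⟩
    rw [h, Subgroup.mem_bot, mul_inv_eq_one, mul_inv_eq_iff_eq_mul] at h1
    exact h1
  · right
    rw [Subgroup.subgroupOf_eq_top] at h
    refine (Nat.le_of_dvd (by norm_num) ((Subgroup.index_dvd_of_le h).trans ?_))
    rw [alternatingGroup.index_eq_two]

/-- Normal subgroups of the symplectic group. -/
theorem sp_normal_dichotomy [Fintype F] (hm : 2 ≤ m) (M : Subgroup Spm) (hM : M.Normal) :
    M ≤ Subgroup.center Spm ∨ (M.index ≤ 2 ∧ (3 ≤ Fintype.card F → M = ⊤)) := by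
  by_cases h : m = 2 → 3 ≤ Fintype.card F
  · have h' : 3 ≤ m ∨ (m = 2 ∧ 3 ≤ Fintype.card F) ∨ 4 ≤ Fintype.card F := by
      rcases Nat.lt_or_ge m 3 with h3 | h3
      · exact Or.inr (Or.inl ⟨by omega, h (by omega)⟩)
      · exact Or.inl h3
    have : (M.map (spEquiv (F := F) m).toMonoidHom).Normal := hM.map _ (spEquiv (F := F) m).surjective
    rcases isom_normal_le_center_or_top (sympBil_isAlt (F := F) m) (sympBil_nondegenerate (F := F) m)
      (sp_isom_perfect m (by omega) h') (M.map (spEquiv (F := F) m).toMonoidHom) with h1 | h1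
    · left
      intro g hg
      refine Subgroup.mem_center_iff.2 fun k => (spEquiv (F := F) m).injective ?_
      rw [map_mul, map_mul]
      exact Subgroup.mem_center_iff.1 (h1 ⟨g, hg, rfl⟩) _
    · right
      have e : M = ⊤ := Subgroup.map_injective (spEquiv (F := F) m).injective (h1.trans
        (Subgroup.map_top_of_surjective _ (spEquiv (F := F) m).surjective).symm)
      exact ⟨by rw [e, Subgroup.index_top]; omega, fun _ => e⟩
  · push Not at h
    obtain ⟨rfl, hc⟩ := h
    have hc2 : Fintype.card F = 2 := by have := Fintype.one_lt_card (α := F); omega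
    obtain ⟨e⟩ := Cfsg.Agent.S0247.result (F := F) hc2
    rcases perm_six_normal _ (hM.map e.toMonoidHom e.surjective) with h1 | h1
    · left
      rw [(Subgroup.map_eq_bot_iff_of_injective _ e.injective).1 h1]
      exact bot_le
    · right
      rw [show (M.map e.toMonoidHom).index = M.index from Subgroup.index_map_equiv M e] at h1
      exact ⟨h1, fun h3 => absurd h3 (by omega)⟩

/-- A vector orthogonal to everything orthogonal to a second one is proportional to it. -/
theorem eq_smul_of_perp {v w : Vm} (hv : v ≠ 0) (h : ∀ x, sympBil F m x v = 0 → sympBil F m x w = 0) :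
    ∃ a : F, w = a • v := by
  obtain ⟨u, hu⟩ := alt_exists_partner (sympBil_nondegenerate (F := F) m).1 hv
  have huv : sympBil F m u v = -1 := by rw [alt_swap (sympBil_isAlt m), hu]
  refine ⟨-sympBil F m u w, sub_eq_zero.1 ((sympBil_nondegenerate (F := F) m).2 _ fun x => ?_)⟩
  have h1 := h (x + sympBil F m x v • u) (by
    rw [map_add, LinearMap.add_apply, map_smul, LinearMap.smul_apply, huv, smul_eq_mul]; ring)
  rw [map_add, LinearMap.add_apply, map_smul, LinearMap.smul_apply, smul_eq_mul] at h1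
  rw [map_sub, map_smul, smul_eq_mul]
  linear_combination h1

/-- The symplectic matrices fixed by `σ`. -/
def fixSp (σ : F ≃+* F) : Subgroup Spm := MonoidHom.eqLocus (semiHom (1 : GSpm) σ) (MonoidHom.id _)

theorem semiHom_std (σ : F ≃+* F) (s : Spm) : (𝕄 (semiHom (1 : GSpm) σ s)) = (𝕄 s).map σ := by
  show gmat (1 : GSpm) * (𝕄 s).map σ * gmat (1 : GSpm)⁻¹ = _
  rw [inv_one, show gmat (1 : GSpm) = 1 from rfl, Matrix.one_mul, Matrix.mul_one]

theorem mem_fixSp {σ : F ≃+* F} {s : Spm} : s ∈ fixSp σ ↔ (𝕄 s).map σ = (𝕄 s) := by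
  show semiHom (1 : GSpm) σ s = s ↔ _
  rw [Subtype.ext_iff, semiHom_std]

theorem spT_mem_fixSp {σ : F ≃+* F} {v : Vm} (hv : ∀ i, σ (v i) = v i) {c : F} (hc : σ c = c) :
    spT v c ∈ fixSp σ := by
  rw [mem_fixSp]
  refine Matrix.ext fun i j => ?_
  have hB : ∀ x y : Vm, (∀ i, σ (x i) = x i) → (∀ i, σ (y i) = y i) → σ (sympBil F m x y) = sympBil F m x y :=
    fun x y hx hy => by
      conv_rhs => rw [← funext hx, ← funext hy]
      exact (form_map σ x y).symm
  have e : (𝕄 (spT v c)) i j = ((𝕄 (spT v c)) *ᵥ Pi.single j 1) i := by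
    rw [Matrix.mulVec_single_one]; rfl
  have h1 : ∀ i k : Fin m ⊕ Fin m, σ ((Pi.single k 1 : Vm) i) = (Pi.single k 1 : Vm) i := fun i k => by
    rcases eq_or_ne i k with rfl | h <;> simp [*]
  show σ _ = _
  rw [e, spT_mulVec, Pi.add_apply, Pi.smul_apply, smul_eq_mul, map_add, map_mul, map_mul, hc, hv, h1,
    hB _ _ (fun i => h1 i j) hv]

variable [Finite F]

theorem mem_gamma_of_fix (hm : 2 ≤ m) (σ : F ≃+* F) (n : MulAut PSpm)
    (h : ∀ s ∈ fixSp (F := F) (m := m) σ, n (QuotientGroup.mk s) = QuotientGroup.mk s) :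
    ∃ (A : GSpm) (τ : F ≃+* F), n = semiAut A τ := by
  let e₀' : Vm := Pi.single (Sum.inl ⟨0, by omega⟩) 1
  have he : e₀' ≠ 0 := by simp [e₀']
  rcases point_or_line hm n (Projectivization.mk F e₀' he) with ⟨Q0, hQ⟩ | ⟨h2m, -, W, hW2, hWi, hW⟩
  · exact semi_of_point hm n _ Q0 hQ
  exfalso
  subst h2m
  have key : ∀ k : Fin 2 ⊕ Fin 2, k ≠ Sum.inr 0 → ∀ x ∈ W, sympBil F 2 x (Pi.single k 1) = 0 := by
    intro k hk x hx
    set v : Vec F 2 := Pi.single k 1
    have hrat : ∀ i, σ (v i) = v i := fun i => by rcases eq_or_ne i k with rfl | h <;> simp [v, *]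
    by_contra hxv
    have hs : (QuotientGroup.mk (spT v 1) : Cfsg.PSp 2 F) ∈ stabilizer (Cfsg.PSp 2 F) (Projectivization.mk F e₀' he) := by
      rw [mem_stabilizer_iff, psp_smul_mk, mk_eq_mk_iff']
      refine ⟨1, ?_⟩
      rw [one_smul, spT_mulVec]
      have : sympBil F 2 e₀' v = 0 := by
        show sympBil F 2 (Pi.single _ 1) (Pi.single k 1) = 0
        rw [sympBil_apply, sympForm_eq]
        rcases k with k | k <;> fin_cases k <;> simp_all [Fin.sum_univ_two]
      rw [this, mul_zero, zero_smul, add_zero]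
    have hs' : (QuotientGroup.mk (spT v 1) : Cfsg.PSp 2 F) ∈ stabSub W := by
      rw [← hW]
      exact ⟨_, hs, h _ (spT_mem_fixSp hrat (map_one σ))⟩
    rw [mk_mem_stabSub_iff] at hs'
    have hmem : (1 * sympBil F 2 x v) • v ∈ W := by
      have h1 : ((spT v 1 : Matrix.symplecticGroup (Fin 2) F) : Matrix (Fin 2 ⊕ Fin 2) (Fin 2 ⊕ Fin 2) F) *ᵥ x ∈ W.map (Matrix.toLin' ((spT v 1 : Matrix.symplecticGroup (Fin 2) F) : Matrix (Fin 2 ⊕ Fin 2) (Fin 2 ⊕ Fin 2) F)) := ⟨x, hx, Matrix.toLin'_apply _ _⟩
      rw [hs'] at h1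
      rw [spT_mulVec] at h1
      simpa using W.sub_mem h1 hx
    have hv : v ∈ W := by
      have := W.smul_mem (1 * sympBil F 2 x v)⁻¹ hmem
      rwa [smul_smul, inv_mul_cancel₀ (by rwa [one_mul]), one_smul] at this
    exact hxv (hWi x hx v hv)
  have hle : W ≤ F ∙ e₀' := fun x hx => by
    refine Submodule.mem_span_singleton.2 ⟨x (Sum.inl ⟨0, by omega⟩), ?_⟩
    have h1 := key (Sum.inl 0) (by simp) x hx
    have h2 := key (Sum.inl 1) (by simp) x hx
    have h3 := key (Sum.inr 1) (by simp) x hx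
    simp [sympBil_apply, sympForm_eq, Fin.sum_univ_two] at h1 h2 h3
    funext i
    rcases i with i | i <;> fin_cases i <;> simp_all [e₀']
  have h4 := Submodule.finrank_mono hle
  rw [hW2, finrank_span_singleton he] at h4
  omega

/-- The centraliser of the rational points is the group of field automorphisms over the fixed field. -/
theorem fix_fixSp (hm : 2 ≤ m) (σ : F ≃+* F) (n : MulAut PSpm)
    (h : ∀ s ∈ fixSp (F := F) (m := m) σ, n (QuotientGroup.mk s) = QuotientGroup.mk s) :
    ∃ τ ∈ Subgroup.zpowers σ, n = semiAut (1 : GSpm) τ := by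
  obtain ⟨A, τ, rfl⟩ := mem_gamma_of_fix hm σ n h
  have hB : ∀ u u' : Vm, sympBil F m (semiVec A τ u) (semiVec A τ u') =
      (Classical.choose A.2 : Fˣ) * τ (sympBil F m u u') := fun u u' => by
    rw [sympBil_apply]
    show Cfsg.sympForm m F (gmat A *ᵥ _) (gmat A *ᵥ _) = _
    rw [Classical.choose_spec A.2, ← sympBil_apply, form_map]
  have key : ∀ v : Vm, (∀ i, σ (v i) = v i) → (∀ i, τ (v i) = v i) → v ≠ 0 → ∃ a : F, gmat A *ᵥ v = a • v := by
    intro v hv hv' hv0
    have hw0 : semiVec A τ v ≠ 0 := semiVec_ne_zero A τ hv0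
    have hval : semiVec A τ v = gmat A *ᵥ v := by rw [semiVec, funext hv']
    obtain ⟨a, ha⟩ := eq_smul_of_perp (v := semiVec A τ v) (w := v) hw0 fun x hx => by
      let x0 : Vm := fun i => τ.symm ((gmat A⁻¹ *ᵥ x) i)
      have hx0 : semiVec A τ x0 = x := by
        rw [semiVec, show (fun i => τ (x0 i)) = gmat A⁻¹ *ᵥ x from funext fun i => τ.apply_symm_apply _,
          Matrix.mulVec_mulVec, gmat_mul_inv, Matrix.one_mulVec]
      rw [← hx0, hB, mul_eq_zero] at hx
      have hz : sympBil F m x0 v = 0 := by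
        rcases hx with h1 | h1
        · exact absurd h1 (Units.ne_zero _)
        · exact τ.injective (h1.trans (map_zero τ).symm)
      have h1 := h _ (spT_mem_fixSp hv (map_one σ))
      rw [semiAut_mk] at h1
      obtain ⟨P, hP⟩ : ∃ P : Pt F m, x = 0 ∨ ∃ hx : x ≠ 0, P = Projectivization.mk F x hx := by
        by_cases hx' : x = 0
        · exact ⟨Projectivization.mk F v hv0, Or.inl hx'⟩
        · exact ⟨_, Or.inr ⟨hx', rfl⟩⟩
      rcases hP with rfl | ⟨hxne, -⟩
      · simp
      have h2 := congrArg (fun q : PSpm => q • Projectivization.mk F x hxne) h1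
      simp only [psp_smul_mk] at h2
      obtain ⟨b, hb⟩ := (mk_eq_mk_iff' F _ _ _ _).1 h2.symm
      have h3 : (𝕄 (semiHom A τ (spT v 1))) *ᵥ x = x := by
        conv_lhs => rw [← hx0, semiHom_mulVec, spT_mulVec, hz, mul_zero, zero_smul, add_zero]
        exact hx0
      rw [h3, spT_mulVec, one_mul] at hb
      by_contra hne
      refine hne ?_
      have h4 : sympBil F m (b • x) v = sympBil F m x v := by
        rw [hb, map_add, LinearMap.add_apply, map_smul, LinearMap.smul_apply, (sympBil_isAlt m) v, smul_zero, add_zero]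
      rw [map_smul, LinearMap.smul_apply, smul_eq_mul] at h4
      have h5 : (b - 1) * sympBil F m x v = 0 := by rw [sub_mul, one_mul, h4, sub_self]
      refine (mul_eq_zero.1 h5).resolve_left fun hb1 => ?_
      rw [sub_eq_zero.1 hb1, one_smul, left_eq_add, smul_eq_zero] at hb
      exact hne (hb.resolve_right hv0)
    have ha0 : a ≠ 0 := fun ha0 => hv0 (by rw [ha, ha0, zero_smul])
    refine ⟨a⁻¹, ?_⟩
    conv_rhs => rw [ha, inv_smul_smul₀ ha0]
    exact hval.symm
  have rat1 : ∀ (ρ : F ≃+* F) (k i : Fin m ⊕ Fin m), ρ ((Pi.single k 1 : Vm) i) = (Pi.single k 1 : Vm) i := fun ρ k i => by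
    rcases eq_or_ne i k with rfl | h <;> simp [*]
  have hcol : ∀ k, ∃ a : F, gmat A *ᵥ Pi.single k 1 = a • Pi.single k 1 := fun k =>
    key _ (rat1 σ k) (rat1 τ k) (by simp)
  choose a ha using hcol
  have hconst : ∀ k l, a k = a l := by
    intro k l
    rcases eq_or_ne k l with rfl | hkl
    · rfl
    obtain ⟨b, hb⟩ := key (Pi.single k 1 + Pi.single l 1) (fun i => by rw [Pi.add_apply, map_add, rat1, rat1])
      (fun i => by rw [Pi.add_apply, map_add, rat1, rat1]) (fun h0 => by
        simpa [hkl] using congrFun h0 k)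
    rw [Matrix.mulVec_add, ha, ha] at hb
    have h1 := congrFun hb k
    have h2 := congrFun hb l
    simp [hkl, hkl.symm] at h1 h2
    rw [h1, h2]
  set k0 : Fin m ⊕ Fin m := Sum.inl ⟨0, by omega⟩
  have hA : gmat A = a k0 • (1 : Matrix (Fin m ⊕ Fin m) (Fin m ⊕ Fin m) F) := Matrix.ext_of_mulVec_single fun k => by
    rw [ha, Matrix.smul_mulVec, Matrix.one_mulVec, hconst k k0]
  have ha0 : a k0 ≠ 0 := fun h0 => gmat_ne_zero A (v := Pi.single k0 1) (by simp) (by rw [ha, h0, zero_smul])
  have hA' : A = sclG (Units.mk0 _ ha0) * 1 := gmat_ext (by rw [mul_one, sclG_mat, Units.val_mk0, hA])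
  rw [hA', semiAut_sclG_mul] at h ⊢
  refine ⟨τ, ?_, rfl⟩
  have hfix : ∀ c : F, σ c = c → τ c = c := by
    intro c hc
    set v : Vm := Pi.single k0 1
    have h1 := h _ (spT_mem_fixSp (rat1 σ k0) hc)
    rw [semiAut_mk] at h1
    have e : semiHom (1 : GSpm) τ (spT v c) = spT v (τ c) := by
      refine Subtype.ext (Matrix.ext_iff_mulVec.2 fun x => ?_)
      have hx : semiVec (1 : GSpm) τ (fun i => τ.symm (x i)) = x := by
        rw [semiVec, show gmat (1 : GSpm) = 1 from rfl, Matrix.one_mulVec]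
        exact funext fun i => τ.apply_symm_apply _
      rw [← hx, semiHom_mulVec, spT_mulVec, spT_mulVec]
      rw [semiVec, semiVec, show gmat (1 : GSpm) = 1 from rfl, Matrix.one_mulVec, Matrix.one_mulVec]
      funext i
      have hv : (fun i => τ (v i)) = v := funext (rat1 τ k0)
      conv_rhs => rw [← hv, form_map]
      simp
    rw [e, QuotientGroup.eq] at h1
    by_contra hne
    have e2 : (spT v (τ c))⁻¹ * spT v c = spT v (c - τ c) :=
      inv_mul_eq_iff_eq_mul.2 (by rw [spT_mul, add_sub_cancel])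
    rw [e2] at h1
    exact spT_ne_center (by simp [v]) (sub_ne_zero.2 (Ne.symm hne)) h1
  let G : Subgroup (F ≃+* F) := Subgroup.zpowers σ
  have : Finite (F ≃+* F) := Finite.of_injective (fun g : F ≃+* F => (g : F → F)) DFunLike.coe_injective
  let τ' : F ≃ₐ[FixedPoints.subfield G F] F := AlgEquiv.ofRingEquiv (f := τ)
    fun z => hfix _ (z.2 ⟨σ, Subgroup.mem_zpowers σ⟩)
  obtain ⟨g, hg⟩ := FixedPoints.toAlgAut_surjective G F τ'
  have hgt : (g : F ≃+* F) = τ := RingEquiv.ext fun x => congrArg (fun f : F ≃ₐ[FixedPoints.subfield G F] F => f x) hg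
  exact hgt ▸ g.2

theorem conj_mk_eq_one (hm : 1 ≤ m) {s : Spm} (h : MulAut.conj (QuotientGroup.mk s : PSpm) = 1) :
    (QuotientGroup.mk s : PSpm) = 1 := by
  refine psp_faithful fun P => ?_
  induction P using Projectivization.ind with | _ v hv => ?_
  rw [psp_smul_mk, mk_eq_mk_iff']
  have hi : gmat (⟨((spGLEquiv m s : Cfsg.spGL m F) : GL (Fin m ⊕ Fin m) F), ⟨1, fun u w => by
    show Cfsg.sympForm m F ((𝕄 s) *ᵥ u) ((𝕄 s) *ᵥ w) = _
    rw [Units.val_one, one_mul]
    exact (mem_symplecticGroup_iff_preserves m).1 s.2 u w⟩⟩ : GSpm) = (𝕄 s) := rfl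
  have e : ∀ t : Spm, (QuotientGroup.mk s : PSpm) * QuotientGroup.mk t = QuotientGroup.mk t * QuotientGroup.mk s :=
    fun t => mul_inv_eq_iff_eq_mul.1 (by simpa [MulAut.conj_apply] using DFunLike.congr_fun h (QuotientGroup.mk t))
  obtain ⟨c, hc⟩ := eigen_all (Matrix.toLin' (𝕄 s)) fun w => by
    rcases eq_or_ne w 0 with rfl | hw
    · exact ⟨0, by simp⟩
    obtain ⟨a, ha⟩ := eq_smul_of_perp (v := w) (w := (𝕄 s) *ᵥ w) hw fun x hx => by
      by_cases hx0 : x = 0
      · simp [hx0]
      by_contra hne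
      have h1 : (QuotientGroup.mk (spT ((𝕄 s) *ᵥ w) 1) : PSpm) = QuotientGroup.mk (spT w 1) := by
        rw [← spT_conj, QuotientGroup.mk_mul, QuotientGroup.mk_mul, e, QuotientGroup.mk_inv, mul_inv_cancel_right]
      have h2 := congrArg (fun q : PSpm => q • Projectivization.mk F x hx0) h1
      simp only [psp_smul_mk] at h2
      obtain ⟨b, hb⟩ := (mk_eq_mk_iff' F _ _ _ _).1 h2
      rw [spT_mulVec, spT_mulVec, hx, mul_zero, zero_smul, add_zero, one_mul] at hb
      have h4 : sympBil F m (b • x) ((𝕄 s) *ᵥ w) = sympBil F m x ((𝕄 s) *ᵥ w) := by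
        rw [hb, map_add, LinearMap.add_apply, map_smul, LinearMap.smul_apply, (sympBil_isAlt m) _, smul_zero, add_zero]
      rw [map_smul, LinearMap.smul_apply, smul_eq_mul] at h4
      obtain rfl : b = 1 := mul_right_cancel₀ hne (h4.trans (one_mul _).symm)
      rw [one_smul, left_eq_add, smul_eq_zero] at hb
      exact sp_ne_zero s hw (hb.resolve_left hne)
    exact ⟨a, by rw [Matrix.toLin'_apply, ha]⟩
  exact ⟨c, by rw [← Matrix.toLin'_apply, hc]⟩

theorem conj_injective_psp (hm : 1 ≤ m) : Function.Injective (MulAut.conj : PSpm →* MulAut PSpm) := by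
  rw [injective_iff_map_eq_one]
  intro k
  induction k using QuotientGroup.induction_on with
  | _ s => exact conj_mk_eq_one hm

theorem conj_aut (n : MulAut PSpm) (k : PSpm) : n * MulAut.conj k * n⁻¹ = MulAut.conj (n k) := by
  ext y
  simp [MulAut.conj_apply]

/-- The fixed points of an automorphism. -/
abbrev fixPts (x : MulAut PSpm) : Subgroup PSpm := MonoidHom.eqLocus x.toMonoidHom (MonoidHom.id _)

theorem eq_one_of_fix (hm : 2 ≤ m) (σ : F ≃+* F) {p : ℕ} (hp : p.Prime) (hσ : orderOf σ = p) (N : Subgroup (MulAut PSpm))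
    (hN : (Nat.card N).Coprime p) (n : MulAut PSpm) (hn : n ∈ N)
    (h : ∀ s ∈ fixSp (F := F) (m := m) σ, n (QuotientGroup.mk s) = QuotientGroup.mk s) : n = 1 := by
  obtain ⟨τ, hτ, rfl⟩ := fix_fixSp hm σ n h
  rw [← orderOf_eq_one_iff]
  refine Nat.eq_one_of_dvd_coprimes hN (Subgroup.orderOf_dvd_natCard N hn) ?_
  rw [orderOf_std (by omega) τ, ← hσ]
  obtain ⟨k, rfl⟩ := hτ
  exact orderOf_dvd_of_pow_eq_one (by rw [← zpow_natCast, ← _root_.zpow_mul, mul_comm, _root_.zpow_mul, zpow_natCast,
    pow_orderOf_eq_one, _root_.one_zpow])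

/-- If the fixed point group has order divisible by `p`, the centraliser of a field automorphism of order `p` has no
nontrivial `p'`-subgroup normalised by it. -/
theorem core_trivial (hm : 2 ≤ m) (σ : F ≃+* F) {p r : ℕ} (hp : p.Prime) [Fact r.Prime] [CharP F r] (hpr : p ≠ r)
    (hσ : orderOf σ = p) (hdiv : p ∣ Nat.card (fixPts (semiAut (1 : GSpm) σ)))
    (N : Subgroup (MulAut PSpm)) (hcomm : N ≤ Subgroup.centralizer {semiAut (1 : GSpm) σ})
    (hcop : (Nat.card N).Coprime p)
    (hnorm : ∀ k ∈ fixPts (semiAut (1 : GSpm) σ), ∀ n ∈ N, MulAut.conj k * n * (MulAut.conj k)⁻¹ ∈ N) :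
    N = ⊥ := by
  classical
  let : Fintype F := Fintype.ofFinite F
  let K := AutPSL.fixField σ
  let : Fintype K := Fintype.ofFinite K
  have hfix : ∀ u : Spm, (QuotientGroup.mk u : PSpm) ∈ fixPts (semiAut (1 : GSpm) σ) → u * u ∈ fixSp σ := by
    intro u hu
    have h1 : semiAut (1 : GSpm) σ (QuotientGroup.mk u) = QuotientGroup.mk u := hu
    rw [semiAut_mk, QuotientGroup.eq] at h1
    have h2 : semiHom (1 : GSpm) σ u * ((semiHom (1 : GSpm) σ u)⁻¹ * u) = u := mul_inv_cancel_left _ _
    rw [mem_fixSp]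
    have h3 := congrArg (fun t : Spm => (𝕄 t)) h2
    rcases sp_center_eq m h1 with e | e <;> simp only [Submonoid.coe_mul, Subgroup.coe_mul, e, semiHom_std,
      Matrix.mul_one, Matrix.mul_neg] at h3
    · show ((𝕄 u) * (𝕄 u)).map σ = (𝕄 u) * (𝕄 u)
      rw [Matrix.map_mul, h3]
    · show ((𝕄 u) * (𝕄 u)).map σ = (𝕄 u) * (𝕄 u)
      rw [Matrix.map_mul]
      conv_rhs => rw [← h3]
      rw [Matrix.neg_mul, Matrix.mul_neg, neg_neg]
  have hmem : ∀ s ∈ fixSp (F := F) (m := m) σ, (QuotientGroup.mk s : PSpm) ∈ fixPts (semiAut (1 : GSpm) σ) := fun s hs => by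
    show semiAut (1 : GSpm) σ (QuotientGroup.mk s) = QuotientGroup.mk s
    rw [semiAut_mk]
    exact congrArg _ hs
  -- base change from the fixed field
  have hJ : (Matrix.J (Fin m) K).map K.subtype = Matrix.J (Fin m) F := by
    ext i j
    rcases i with i | i <;> rcases j with j | j <;> simp [Matrix.J, Matrix.one_apply] <;> split_ifs <;> simp
  have hinjK : Function.Injective fun X : Matrix (Fin m ⊕ Fin m) (Fin m ⊕ Fin m) K => X.map K.subtype :=
    Matrix.map_injective K.subtype.injective
  let bc : Matrix.symplecticGroup (Fin m) K →* Spm :=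
    { toFun := fun s => ⟨(s : Matrix (Fin m ⊕ Fin m) (Fin m ⊕ Fin m) K).map K.subtype, SymplecticGroup.mem_iff.2 (by
        have h := congrArg (fun X : Matrix (Fin m ⊕ Fin m) (Fin m ⊕ Fin m) K => X.map K.subtype)
          (SymplecticGroup.mem_iff.1 s.2)
        simp only [Matrix.map_mul, Matrix.transpose_map, hJ] at h
        exact h)⟩
      map_one' := Subtype.ext (Matrix.map_one _ (map_zero K.subtype) (map_one K.subtype))
      map_mul' := fun s t => Subtype.ext Matrix.map_mul }
  have hbc : ∀ s, bc s ∈ fixSp σ := fun s => mem_fixSp.2 (Matrix.ext fun i j => (s.1 i j).2)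
  have hsurj : ∀ s ∈ fixSp (F := F) (m := m) σ, ∃ s₀, bc s₀ = s := fun s hs => by
    have hij : ∀ i j, (𝕄 s) i j ∈ K := fun i j => congrFun (congrFun (mem_fixSp.1 hs) i) j
    let X : Matrix (Fin m ⊕ Fin m) (Fin m ⊕ Fin m) K := Matrix.of fun i j => ⟨_, hij i j⟩
    have hX : X.map K.subtype = (𝕄 s) := rfl
    refine ⟨⟨X, SymplecticGroup.mem_iff.2 (hinjK ?_)⟩, Subtype.ext hX⟩
    simp only [Matrix.map_mul, Matrix.transpose_map, hJ, hX]
    exact SymplecticGroup.mem_iff.1 s.2
  let ψ : Matrix.symplecticGroup (Fin m) K →* MulAut PSpm :=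
    (MulAut.conj.comp (QuotientGroup.mk' (Subgroup.center Spm))).comp bc
  have hnormal : (N.comap ψ).Normal := ⟨fun a ha b => by
    rw [Subgroup.mem_comap, map_mul, map_mul, map_inv]
    exact hnorm _ (hmem _ (hbc b)) _ ha⟩
  rcases sp_normal_dichotomy hm _ hnormal with hA | ⟨hidx, htop⟩
  · have h0 : ∀ s ∈ fixSp (F := F) (m := m) σ, MulAut.conj (QuotientGroup.mk s : PSpm) ∈ N →
        (QuotientGroup.mk s : PSpm) = 1 := by
      intro s hs hsN
      obtain ⟨s₀, rfl⟩ := hsurj s hs
      refine (QuotientGroup.eq_one_iff _).2 ?_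
      rcases sp_center_eq m (hA (show s₀ ∈ N.comap ψ from hsN)) with e | e
      · refine scalar_mem_center 1 fun v => ?_
        show ((s₀ : Matrix (Fin m ⊕ Fin m) (Fin m ⊕ Fin m) K).map K.subtype) *ᵥ v = _
        rw [e, Matrix.map_one _ (map_zero K.subtype) (map_one K.subtype), Matrix.one_mulVec, one_smul]
      · refine scalar_mem_center (-1) fun v => ?_
        show ((s₀ : Matrix (Fin m ⊕ Fin m) (Fin m ⊕ Fin m) K).map K.subtype) *ᵥ v = _
        rw [e, show ((-1 : Matrix (Fin m ⊕ Fin m) (Fin m ⊕ Fin m) K)).map K.subtype = -1 from by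
          ext i j; simp [Matrix.one_apply]; split_ifs <;> simp, Matrix.neg_mulVec, Matrix.one_mulVec, neg_one_smul]
    -- the part of `N` inside the inner automorphisms is trivial
    have hD : ∀ k ∈ fixPts (semiAut (1 : GSpm) σ), MulAut.conj k ∈ N → k = 1 := by
      intro k hk hkN
      refine conj_injective_psp (by omega) ?_
      rw [map_one]
      refine eq_one_of_fix hm σ hp hσ N hcop _ hkN fun s hs => ?_
      have hks : k * QuotientGroup.mk s * k⁻¹ * (QuotientGroup.mk s)⁻¹ = 1 := by
        induction k using QuotientGroup.induction_on with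
        | _ u =>
          have hu : u * s * u⁻¹ * s⁻¹ ∈ fixSp σ := by
            refine mul_mem ?_ (inv_mem hs)
            show semiHom (1 : GSpm) σ (u * s * u⁻¹) = u * s * u⁻¹
            have h1 : semiAut (1 : GSpm) σ (QuotientGroup.mk u) = QuotientGroup.mk u := hk
            rw [semiAut_mk, QuotientGroup.eq] at h1
            have hs' : semiHom (1 : GSpm) σ s = s := hs
            rw [map_mul, map_mul, map_inv, hs']
            have h2 := Subgroup.mem_center_iff.1 h1 s
            calc semiHom (1 : GSpm) σ u * s * (semiHom (1 : GSpm) σ u)⁻¹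
                = semiHom (1 : GSpm) σ u * (s * ((semiHom (1 : GSpm) σ u)⁻¹ * u)) * u⁻¹ := by group
              _ = _ := by rw [h2]; group
          rw [← QuotientGroup.mk_inv, ← QuotientGroup.mk_inv, ← QuotientGroup.mk_mul, ← QuotientGroup.mk_mul,
            ← QuotientGroup.mk_mul]
          refine h0 _ hu ?_
          rw [QuotientGroup.mk_mul, QuotientGroup.mk_mul, QuotientGroup.mk_mul, QuotientGroup.mk_inv,
            QuotientGroup.mk_inv, map_mul, map_mul, map_mul, map_inv, map_inv,
            show MulAut.conj (QuotientGroup.mk u : PSpm) * MulAut.conj (QuotientGroup.mk s) *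
              (MulAut.conj (QuotientGroup.mk u))⁻¹ * (MulAut.conj (QuotientGroup.mk s))⁻¹ =
              MulAut.conj (QuotientGroup.mk u : PSpm) * (MulAut.conj (QuotientGroup.mk s) *
              (MulAut.conj (QuotientGroup.mk u))⁻¹ * (MulAut.conj (QuotientGroup.mk s))⁻¹) by group]
          exact mul_mem hkN (hnorm _ (hmem s hs) _ (inv_mem hkN))
      rw [MulAut.conj_apply]
      exact mul_inv_eq_one.1 hks
    rw [eq_bot_iff]
    intro n hn
    rw [Subgroup.mem_bot]
    refine eq_one_of_fix hm σ hp hσ N hcop n hn fun s hs => ?_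
    have hk := hmem s hs
    have hc : n * semiAut (1 : GSpm) σ = semiAut (1 : GSpm) σ * n := Subgroup.mem_centralizer_singleton_iff.1 (hcomm hn)
    have hnk : n (QuotientGroup.mk s) ∈ fixPts (semiAut (1 : GSpm) σ) := by
      show semiAut (1 : GSpm) σ (n (QuotientGroup.mk s)) = n (QuotientGroup.mk s)
      rw [← MulAut.mul_apply, ← hc, MulAut.mul_apply]
      exact congrArg n hk
    refine mul_inv_eq_one.1 (hD _ (mul_mem hnk (inv_mem hk)) ?_)
    rw [map_mul, map_inv, ← conj_aut, mul_assoc, mul_assoc, ← mul_assoc (MulAut.conj _)]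
    exact mul_mem hn (hnorm _ hk _ (inv_mem hn))
  · exfalso
    have hK2 : ringChar K = r := ringChar.eq K r
    rcases hp.eq_two_or_odd' with rfl | hodd
    · have h2 : (2 : F) ≠ 0 := by
        intro h0
        have := (CharP.cast_eq_zero_iff F r 2).1 (by exact_mod_cast h0)
        exact hpr ((Nat.prime_dvd_prime_iff_eq Fact.out Nat.prime_two).1 this).symm
      have hc3 : 3 ≤ Fintype.card K := by
        have h0 : ({0, 1, -1} : Finset K).card = 3 := by
          have h1 : (1 : K) ≠ -1 := fun e => h2 (by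
            have := congrArg K.subtype e
            simp only [map_one, map_neg] at this
            linear_combination this)
          simp [h1]
        exact h0 ▸ Finset.card_le_univ _
      have hM := htop hc3
      -- an involution
      let D : Matrix (Fin m ⊕ Fin m) (Fin m ⊕ Fin m) K :=
        Matrix.diagonal (Sum.elim (fun i => if i = ⟨0, by omega⟩ then -1 else 1) fun i => if i = ⟨0, by omega⟩ then -1 else 1)
      have hD : D ∈ Matrix.symplecticGroup (Fin m) K := by
        rw [mem_symplecticGroup_iff_preserves]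
        intro u v
        rw [sympForm_eq, sympForm_eq]
        exact Finset.sum_congr rfl fun i _ => by simp [D, Matrix.mulVec_diagonal]; split_ifs <;> ring
      have hsq : (⟨D, hD⟩ : Matrix.symplecticGroup (Fin m) K) * ⟨D, hD⟩ = 1 := Subtype.ext (by
        show D * D = 1
        rw [Matrix.diagonal_mul_diagonal, ← Matrix.diagonal_one]
        congr 1
        funext i
        rcases i with i | i <;> simp <;> split_ifs <;> simp)
      have hmemN : ψ ⟨D, hD⟩ ∈ N := (hM ▸ Subgroup.mem_top _ : (⟨D, hD⟩ : Matrix.symplecticGroup (Fin m) K) ∈ N.comap ψ)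
      have hne : ψ ⟨D, hD⟩ ≠ 1 := fun e => by
        have h1 := (QuotientGroup.eq_one_iff _).1 (conj_mk_eq_one (by omega) (s := bc ⟨D, hD⟩) e)
        rcases sp_center_eq m h1 with e' | e'
        · have := congrFun (congrFun e' (Sum.inl ⟨0, by omega⟩)) (Sum.inl ⟨0, by omega⟩)
          simp [bc, D] at this
          exact h2 (by linear_combination -this)
        · have := congrFun (congrFun e' (Sum.inl ⟨1, by omega⟩)) (Sum.inl ⟨1, by omega⟩)
          simp [bc, D] at this
          exact h2 (by linear_combination this)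
      have hord : orderOf (ψ ⟨D, hD⟩) = 2 := orderOf_eq_prime (by rw [← map_pow, pow_two, hsq, map_one]) hne
      have := Nat.eq_one_of_dvd_coprimes hcop (Subgroup.orderOf_dvd_natCard N hmemN) (by rw [hord])
      omega
    · haveI : Fact p.Prime := ⟨hp⟩
      haveI : Finite Spm := Finite.of_injective (fun s : Spm => (𝕄 s)) Subtype.coe_injective
      obtain ⟨⟨g, hg⟩, hgo⟩ := exists_prime_orderOf_dvd_card' p hdiv
      rw [← Subgroup.orderOf_coe] at hgo
      induction g using QuotientGroup.induction_on with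
      | _ u =>
        obtain ⟨s₀, hs₀⟩ := hsurj _ (hfix u hg)
        have h4 : s₀ ^ 2 ∈ N.comap ψ := by
          rcases Nat.lt_or_ge (N.comap ψ).index 2 with h | h
          · have : N.comap ψ = ⊤ := Subgroup.index_eq_one.1 (by
              have := Subgroup.index_ne_zero_of_finite (H := N.comap ψ); omega)
            rw [this]; trivial
          · exact Subgroup.sq_mem_of_index_two (by omega) s₀
        have h5 : MulAut.conj (QuotientGroup.mk u : PSpm) ^ 4 ∈ N := by
          have e : ψ (s₀ ^ 2) = MulAut.conj (QuotientGroup.mk u : PSpm) ^ 4 := by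
            rw [map_pow, show ψ s₀ = MulAut.conj (QuotientGroup.mk (u * u) : PSpm) by rw [← hs₀]; rfl,
              ← map_pow, ← map_pow, QuotientGroup.mk_mul, ← pow_two, ← pow_mul]
          exact e ▸ h4
        have ho : orderOf (MulAut.conj (QuotientGroup.mk u : PSpm) ^ 4) = p := by
          rw [← map_pow, orderOf_injective _ (conj_injective_psp (by omega)), Nat.Coprime.orderOf_pow, hgo]
          rw [hgo, show 4 = 2 ^ 2 from rfl]
          exact ((Nat.coprime_primes hp Nat.prime_two).2 (by rintro rfl; exact absurd hodd (by decide))).pow_right 2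
        have := Nat.eq_one_of_dvd_coprimes hcop (Subgroup.orderOf_dvd_natCard N h5) (by rw [ho])
        exact hp.one_lt.ne' (ho ▸ this)

end CfsgLib.KnownC.AutPSp
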