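import Cfsg.Agent.Lib.KnownC.AutPSp.Main
import Cfsg.Agent.Lib.KnownC.AutPSL.FieldClass

set_option autoImplicit false
set_option linter.unusedSectionVars false

/-! Field automorphisms of prime order of `PSp_{2m}`. -/

namespace CfsgLib.KnownC.AutPSp

open Matrix CfsgLib.Classical

variable {F : Type*} [Field F] {m : ℕ}

local notation "PSpm" => Cfsg.PSp m F
local notation "GSpm" => Cfsg.GSp m F
local notation "Vm" => Vec F m

/-- The scalar similitudes. -/
def sclG (c : Fˣ) : GSpm := ⟨Units.map (Matrix.scalar (Fin m ⊕ Fin m)).toMonoidHom c, ⟨c * c, fun u v => by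
  show Cfsg.sympForm m F (Matrix.scalar (Fin m ⊕ Fin m) (c : F) *ᵥ u) (Matrix.scalar (Fin m ⊕ Fin m) (c : F) *ᵥ v) = _
  rw [Matrix.scalar_apply, ← Matrix.smul_one_eq_diagonal, Matrix.smul_mulVec, Matrix.one_mulVec, Matrix.smul_mulVec,
    Matrix.one_mulVec, ← sympBil_apply, map_smul, map_smul, LinearMap.smul_apply, smul_smul, smul_eq_mul, sympBil_apply,
    Units.val_mul]⟩⟩

theorem sclG_mat (c : Fˣ) :
    gmat (sclG c : GSpm) = (c : F) • (1 : Matrix (Fin m ⊕ Fin m) (Fin m ⊕ Fin m) F) := by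
  show Matrix.scalar (Fin m ⊕ Fin m) (c : F) = _
  rw [Matrix.scalar_apply, ← Matrix.smul_one_eq_diagonal]

theorem gmat_ext {A B : GSpm} (h : gmat A = gmat B) : A = B := Subtype.ext (Units.ext h)

theorem sclG_comm (c : Fˣ) (A : GSpm) : sclG c * A = A * sclG c := gmat_ext (by
  rw [gmat_mul, gmat_mul, sclG_mat, Matrix.smul_mul, Matrix.mul_smul, Matrix.one_mul, Matrix.mul_one])

theorem sclG_mul (c d : Fˣ) : (sclG (c * d) : GSpm) = sclG c * sclG d := gmat_ext (by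
  rw [gmat_mul, sclG_mat, sclG_mat, sclG_mat, Matrix.smul_mul, Matrix.one_mul, smul_smul, Units.val_mul])

theorem sclG_one : (sclG 1 : GSpm) = 1 := gmat_ext (by rw [sclG_mat, Units.val_one, one_smul]; rfl)

theorem gMap_sclG (σ : F ≃+* F) (c : Fˣ) :
    gMap σ (sclG c : GSpm) = sclG (Units.map σ.toRingHom.toMonoidHom c) := gmat_ext (by
  rw [gMap_coe, sclG_mat, sclG_mat]
  ext i j
  simp [Matrix.one_apply, apply_ite σ])

theorem semiAut_sclG (c : Fˣ) : semiAut (sclG c : GSpm) 1 = 1 := by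
  refine MulEquiv.ext fun x => ?_
  induction x using QuotientGroup.induction_on with
  | _ s =>
    rw [semiAut_mk]
    refine congrArg _ (Subtype.ext ?_)
    show gmat (sclG c : GSpm) * (s : Matrix (Fin m ⊕ Fin m) (Fin m ⊕ Fin m) F).map (1 : F ≃+* F) *
      gmat (sclG c : GSpm)⁻¹ = _
    rw [show (s : Matrix (Fin m ⊕ Fin m) (Fin m ⊕ Fin m) F).map (1 : F ≃+* F) = (s : Matrix (Fin m ⊕ Fin m) (Fin m ⊕ Fin m) F) from rfl]
    have h : gmat (sclG c : GSpm) * (s : Matrix (Fin m ⊕ Fin m) (Fin m ⊕ Fin m) F) =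
        (s : Matrix (Fin m ⊕ Fin m) (Fin m ⊕ Fin m) F) * gmat (sclG c : GSpm) := by
      rw [sclG_mat, Matrix.smul_mul, Matrix.mul_smul, Matrix.one_mul, Matrix.mul_one]
    rw [h, Matrix.mul_assoc, gmat_mul_inv, Matrix.mul_one]

theorem semiAut_sclG_mul (c : Fˣ) (A : GSpm) (σ : F ≃+* F) : semiAut (sclG c * A) σ = semiAut A σ := by
  have h := semiAut_mul (sclG c) A 1 σ
  rw [semiAut_sclG, gMap_one, one_mul, one_mul] at h
  exact h.symm

theorem semi_eq_iff (hm : 1 ≤ m) {A B : GSpm} {σ τ : F ≃+* F} :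
    semiAut A σ = semiAut B τ ↔ σ = τ ∧ ∃ c : Fˣ, A = sclG c * B := by
  constructor
  · intro h
    have h1 : semiAut A σ * (semiAut B τ)⁻¹ = 1 := by rw [h, mul_inv_cancel]
    rw [semiAut_inv, semiAut_mul] at h1
    obtain ⟨hσ, c, hc⟩ := semi_eq_one hm h1
    rw [mul_inv_eq_one] at hσ
    subst hσ
    refine ⟨rfl, c, ?_⟩
    have e : gMap σ (gMap σ⁻¹ B⁻¹) = B⁻¹ := gmat_ext (by
      rw [gMap_coe, gMap_coe]; ext i j; exact σ.apply_symm_apply _)
    rw [e, ← sclG_mat] at hc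
    rw [← gmat_ext hc, inv_mul_cancel_right]
  · rintro ⟨rfl, c, rfl⟩
    exact semiAut_sclG_mul c B _

/-- Twisted powers. -/
def semiPow (A : GSpm) (σ : F ≃+* F) : ℕ → GSpm
  | 0 => 1
  | k + 1 => A * gMap σ (semiPow A σ k)

theorem semiAut_pow (A : GSpm) (σ : F ≃+* F) (k : ℕ) : semiAut A σ ^ k = semiAut (semiPow A σ k) (σ ^ k) := by
  induction k with
  | zero => rw [pow_zero, pow_zero]; exact semiAut_one.symm
  | succ k ih => rw [pow_succ', ih, semiAut_mul, pow_succ']; rfl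

theorem gMap_gMap (σ τ : F ≃+* F) (A : GSpm) : gMap σ (gMap τ A) = gMap (σ * τ) A :=
  gmat_ext (Matrix.ext fun _ _ => rfl)

theorem semiPow_succ' (A : GSpm) (σ : F ≃+* F) (k : ℕ) :
    semiPow A σ (k + 1) = semiPow A σ k * gMap (σ ^ k) A := by
  induction k with
  | zero =>
    show A * gMap σ 1 = 1 * gMap (σ ^ 0) A
    rw [map_one, mul_one, one_mul, pow_zero, gMap_one]
  | succ k ih =>
    show A * gMap σ (semiPow A σ (k + 1)) = _
    conv_lhs => rw [ih]
    rw [map_mul, ← mul_assoc, gMap_gMap, ← pow_succ']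
    rfl

theorem semiPow_one (σ : F ≃+* F) (k : ℕ) : semiPow (1 : GSpm) σ k = 1 := by
  induction k with
  | zero => rfl
  | succ k ih => rw [semiPow, ih, map_one, one_mul]

theorem semiPow_sclG_mul (c : Fˣ) (A : GSpm) (σ : F ≃+* F) (k : ℕ) (u : Fˣ)
    (hu : (u : F) = AutPSL.nrm σ k c) : semiPow (sclG c * A) σ k = sclG u * semiPow A σ k := by
  induction k generalizing u with
  | zero => rw [show u = 1 from Units.ext hu, sclG_one, one_mul]; rfl
  | succ k ih =>
    have hne : AutPSL.nrm σ k c ≠ 0 := fun h0 => u.ne_zero (by rw [hu, AutPSL.nrm, h0, map_zero, mul_zero])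
    have h1 := ih (Units.mk0 _ hne) rfl
    have hu' : u = c * Units.map σ.toRingHom.toMonoidHom (Units.mk0 _ hne) := Units.ext hu
    rw [semiPow, h1, map_mul, gMap_sclG, semiPow, hu', sclG_mul, mul_assoc (sclG c) A, ← mul_assoc A, ← sclG_comm,
      mul_assoc, mul_assoc]

theorem orderOf_std (hm : 1 ≤ m) (σ : F ≃+* F) : orderOf (semiAut (1 : GSpm) σ) = orderOf σ :=
  orderOf_eq_orderOf_iff.2 fun k => by
    rw [semiAut_pow, semiPow_one]
    exact ⟨fun h => (semi_eq_one hm h).1, fun h => by rw [h, semiAut_one]⟩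

theorem sclG_injective (hm : 1 ≤ m) : Function.Injective (sclG : Fˣ → GSpm) := fun c d h => by
  have := congrArg (fun A : GSpm => gmat A (Sum.inl ⟨0, hm⟩) (Sum.inl ⟨0, hm⟩)) h
  simpa [sclG_mat, Units.val_inj] using this

/-- To matrices indexed by `Fin (m + m)`. -/
def reGL : GL (Fin m ⊕ Fin m) F →* GL (Fin (m + m)) F :=
  Units.map (Matrix.reindexAlgEquiv F F (finSumFinEquiv : Fin m ⊕ Fin m ≃ Fin (m + m))).toMonoidHom

theorem reGL_semiPow (A : GSpm) (σ : F ≃+* F) (k : ℕ) :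
    reGL (semiPow A σ k : GL (Fin m ⊕ Fin m) F) = AutPSL.semiPow (reGL (A : GL (Fin m ⊕ Fin m) F)) σ k := by
  induction k with
  | zero => exact map_one _
  | succ k ih =>
    show reGL ((A : GL (Fin m ⊕ Fin m) F) * (gMap σ (semiPow A σ k) : GL (Fin m ⊕ Fin m) F)) = _
    rw [map_mul]
    show _ = reGL (A : GL (Fin m ⊕ Fin m) F) * Matrix.GeneralLinearGroup.map σ.toRingHom (AutPSL.semiPow _ σ k)
    rw [← ih]
    congr 1

/-- The change of basis to a symplectic one over a subfield. -/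
theorem exists_symp_matrix (K : Subfield F) (h : GL (Fin m ⊕ Fin m) F) (z : F) (hz : z ≠ 0)
    (hK : ∀ i j, sympBil F m ((h : Matrix (Fin m ⊕ Fin m) (Fin m ⊕ Fin m) F) *ᵥ Pi.single i 1)
      ((h : Matrix (Fin m ⊕ Fin m) (Fin m ⊕ Fin m) F) *ᵥ Pi.single j 1) / z ∈ K) :
    ∃ k : GL (Fin m ⊕ Fin m) K, (h * Matrix.GeneralLinearGroup.map K.subtype k) ∈ Cfsg.GSp m F := by
  classical
  set H : Matrix (Fin m ⊕ Fin m) (Fin m ⊕ Fin m) F := (h : Matrix (Fin m ⊕ Fin m) (Fin m ⊕ Fin m) F)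
  let B0 : Vm →ₗ[F] Vm →ₗ[F] F := z⁻¹ • (sympBil F m).compl₁₂ (Matrix.toLin' H) (Matrix.toLin' H)
  let M : Matrix (Fin m ⊕ Fin m) (Fin m ⊕ Fin m) K := fun i j => ⟨_, hK i j⟩
  let B' : Vec K m →ₗ[K] Vec K m →ₗ[K] K := Matrix.toLinearMap₂' K M
  let emb : Vec K m → Vm := fun x i => (x i : F)
  have hB0 : ∀ x y : Vm, B0 x y = z⁻¹ * sympBil F m (H *ᵥ x) (H *ᵥ y) := fun x y => by
    simp [B0, LinearMap.compl₁₂_apply, Matrix.toLin'_apply]
  have hemb : ∀ x y, (B' x y : F) = B0 (emb x) (emb y) := by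
    intro x y
    have hsum : ∀ w : Vm, w = ∑ i, w i • (Pi.single i 1 : Vm) := fun w => by
      funext j; simp [Finset.sum_apply, Pi.single_apply]
    conv_rhs => rw [hsum (emb x), hsum (emb y)]
    simp only [map_sum, LinearMap.sum_apply, map_smul, LinearMap.smul_apply, smul_eq_mul]
    show ((Matrix.toLinearMap₂' K M x y : K) : F) = _
    rw [Matrix.toLinearMap₂'_apply, AddSubmonoidClass.coe_finsetSum]
    simp only [Finset.mul_sum]
    conv_rhs => rw [Finset.sum_comm]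
    refine Finset.sum_congr rfl fun i _ => ?_
    rw [AddSubmonoidClass.coe_finsetSum]
    refine Finset.sum_congr rfl fun j _ => ?_
    rw [hB0]
    simp [M, emb, smul_eq_mul]
    ring
  have hA : B'.IsAlt := fun x => Subtype.ext (by
    rw [hemb, hB0, (sympBil_isAlt m), mul_zero]; rfl)
  have hinj : ∀ w : Vm, H *ᵥ w = 0 → w = 0 := fun w hw => by
    by_contra h0
    exact (smul_ne_zero_iff_ne h).2 h0 hw
  have hNl : B'.SeparatingLeft := by
    intro x hx
    have h0 : ∀ w : Vm, sympBil F m (H *ᵥ emb x) w = 0 := by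
      intro w
      have hw : w = H *ᵥ (((h⁻¹ : GL (Fin m ⊕ Fin m) F) : Matrix (Fin m ⊕ Fin m) (Fin m ⊕ Fin m) F) *ᵥ w) := by
        rw [Matrix.mulVec_mulVec, ← Units.val_mul, mul_inv_cancel, Units.val_one, Matrix.one_mulVec]
      rw [hw]
      set w' := ((h⁻¹ : GL (Fin m ⊕ Fin m) F) : Matrix (Fin m ⊕ Fin m) (Fin m ⊕ Fin m) F) *ᵥ w
      rw [show w' = ∑ i, w' i • (Pi.single i 1 : Vm) by funext j; simp [Finset.sum_apply, Pi.single_apply],
        Matrix.mulVec_sum, map_sum]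
      refine Finset.sum_eq_zero fun i _ => ?_
      have h1 := congrArg Subtype.val (hx (Pi.single i 1))
      rw [hemb, hB0, show emb (Pi.single i 1) = (Pi.single i 1 : Vm) from funext fun j => by
        rcases eq_or_ne j i with rfl | hj <;> simp [emb, *]] at h1
      change _ = (0 : F) at h1
      rw [Matrix.mulVec_smul, map_smul, (mul_eq_zero.1 h1).resolve_left (inv_ne_zero hz), smul_zero]
    funext i
    exact Subtype.ext (congrFun (hinj _ ((sympBil_nondegenerate (F := F) m).1 _ h0)) i)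
  have hN : B'.Nondegenerate := ⟨hNl, fun x hx => hNl x fun y => hA.isRefl _ _ (hx y)⟩
  obtain ⟨m', b, hb⟩ := exists_sympBasis hA hN
  obtain rfl : m' = m := by
    have := Module.finrank_eq_card_basis b
    simp at this
    omega
  let kM : Matrix (Fin m' ⊕ Fin m') (Fin m' ⊕ Fin m') K := Matrix.of fun i j => b (Sum.swap j) i
  have hkM : IsUnit kM := by
    rw [← Matrix.linearIndependent_cols_iff_isUnit]
    exact b.linearIndependent.comp Sum.swap (Equiv.sumComm _ _).injective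
  refine ⟨hkM.unit, ⟨Units.mk0 z hz, fun u v => ?_⟩⟩
  set k' : Matrix (Fin m' ⊕ Fin m') (Fin m' ⊕ Fin m') F :=
    (Matrix.GeneralLinearGroup.map K.subtype hkM.unit).val
  have hext : (sympBil F m').compl₁₂ (Matrix.toLin' (H * k')) (Matrix.toLin' (H * k')) = z • sympBil F m' := by
    refine LinearMap.ext_basis (Pi.basisFun F _) (Pi.basisFun F _) fun i j => ?_
    rw [Pi.basisFun_apply, Pi.basisFun_apply, LinearMap.compl₁₂_apply, Matrix.toLin'_apply, Matrix.toLin'_apply,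
      ← Matrix.mulVec_mulVec, ← Matrix.mulVec_mulVec, LinearMap.smul_apply, LinearMap.smul_apply, smul_eq_mul]
    have hcol : ∀ l, k' *ᵥ Pi.single l 1 = emb (b (Sum.swap l)) := fun l => by
      rw [Matrix.mulVec_single_one]; rfl
    have h2 := hemb (b (Sum.swap i)) (b (Sum.swap j))
    rw [hB0, ← hcol, ← hcol] at h2
    rw [← mul_inv_cancel_left₀ hz (sympBil F m' (H *ᵥ k' *ᵥ Pi.single i 1) (H *ᵥ k' *ᵥ Pi.single j 1)), ← h2]
    congr 1
    rcases i with i | i <;> rcases j with j | j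
    · rw [form_single_inl, Sum.swap_inl, Sum.swap_inl, hb.2.2]; simp
    · rw [form_single_inl, Sum.swap_inl, Sum.swap_inr, alt_swap hA, hb.1]
      rcases eq_or_ne i j with rfl | hij <;> simp [*, Ne.symm]
    · rw [form_single_inr, Sum.swap_inr, Sum.swap_inl, hb.1]
      rcases eq_or_ne i j with rfl | hij <;> simp [*, Ne.symm]
    · rw [form_single_inr, Sum.swap_inr, Sum.swap_inr, hb.2.1]; simp
  have h3 := LinearMap.congr_fun₂ hext u v
  simp only [LinearMap.compl₁₂_apply, Matrix.toLin'_apply, LinearMap.smul_apply, smul_eq_mul, sympBil_apply] at h3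
  exact h3

variable [Finite F]

/-- In the coset of a field automorphism of order `r` the elements of order `r` are conjugate. -/
theorem field_conj (hm : 1 ≤ m) (A : GSpm) (σ : F ≃+* F) {r : ℕ} (hr : 1 ≤ r) (hσ : orderOf σ = r)
    (h : semiAut A σ ^ r = 1) :
    ∃ g : GSpm, semiAut A σ = semiAut g 1 * semiAut 1 σ * (semiAut g 1)⁻¹ := by
  have hr1 : σ ^ r = 1 := hσ ▸ pow_orderOf_eq_one σ
  rw [semiAut_pow, hr1] at h
  obtain ⟨-, c, hc⟩ := (semi_eq_iff hm).1 (h.trans semiAut_one.symm)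
  rw [mul_one] at hc
  have hfix : σ (c : F) = (c : F) := by
    have h1 := semiPow_succ' A σ r
    rw [semiPow, hc, gMap_sclG, hr1, gMap_one, ← sclG_comm] at h1
    exact congrArg Units.val (sclG_injective hm (mul_right_cancel h1))
  obtain ⟨u, hu⟩ := AutPSL.exists_nrm σ hσ hr ((c⁻¹ : Fˣ) : F) (by rw [Units.val_inv_eq_inv_val, map_inv₀, hfix])
  have hu0 : u ≠ 0 := fun h0 => (c⁻¹).ne_zero (by
    obtain ⟨k, rfl⟩ : ∃ k, r = k + 1 := ⟨r - 1, by omega⟩
    rw [← hu, h0]; simp [AutPSL.nrm])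
  rw [← semiAut_sclG_mul (Units.mk0 u hu0) A σ]
  set A' := sclG (Units.mk0 u hu0) * A
  have hA' : semiPow A' σ r = 1 := by
    rw [semiPow_sclG_mul (Units.mk0 u hu0) A σ r c⁻¹ hu.symm, hc, ← sclG_mul, inv_mul_cancel, sclG_one]
  obtain ⟨hN, hhN⟩ := AutPSL.exists_descent (reGL (A' : GL (Fin m ⊕ Fin m) F)) σ hσ hr
    (by rw [← reGL_semiPow, hA', Subgroup.coe_one, map_one])
  let h0 : GL (Fin m ⊕ Fin m) F :=
    Units.map (Matrix.reindexAlgEquiv F F (finSumFinEquiv : Fin m ⊕ Fin m ≃ Fin (m + m)).symm).toMonoidHom hN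
  have hback : ∀ X : GL (Fin m ⊕ Fin m) F,
      Units.map (Matrix.reindexAlgEquiv F F (finSumFinEquiv : Fin m ⊕ Fin m ≃ Fin (m + m)).symm).toMonoidHom (reGL X) = X :=
    fun X => Units.ext (Matrix.ext fun i j => by simp [reGL])
  have hA0 : (A' : GL (Fin m ⊕ Fin m) F) * Matrix.GeneralLinearGroup.map σ.toRingHom h0 = h0 := by
    have e := congrArg (Units.map
      (Matrix.reindexAlgEquiv F F (finSumFinEquiv : Fin m ⊕ Fin m ≃ Fin (m + m)).symm).toMonoidHom) hhN
    rw [map_mul, hback] at e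
    refine Eq.trans ?_ e
    congr 1
  obtain ⟨μ, hμ⟩ := A'.2
  set H : Matrix (Fin m ⊕ Fin m) (Fin m ⊕ Fin m) F := (h0 : Matrix (Fin m ⊕ Fin m) (Fin m ⊕ Fin m) F)
  have hT : ∀ i, H *ᵥ Pi.single i 1 = semiVec A' σ (H *ᵥ Pi.single i 1) := by
    intro i
    conv_lhs => rw [show H = gmat A' * H.map σ from (congrArg Units.val hA0).symm]
    rw [semiVec, ← Matrix.mulVec_mulVec]
    congr 1
    funext k
    simp [Matrix.map_apply]
  have hM : ∀ i j, sympBil F m (H *ᵥ Pi.single i 1) (H *ᵥ Pi.single j 1) =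
      (μ : F) * σ (sympBil F m (H *ᵥ Pi.single i 1) (H *ᵥ Pi.single j 1)) := fun i j => by
    conv_lhs => rw [hT i, hT j]
    rw [semiVec, semiVec, sympBil_apply, hμ, ← sympBil_apply, form_map]
  obtain ⟨a, b, hab⟩ : ∃ a b, sympBil F m (H *ᵥ Pi.single a 1) (H *ᵥ Pi.single b 1) ≠ 0 := by
    by_contra hcon
    push Not at hcon
    have h2 : (sympBil F m).compl₁₂ (Matrix.toLin' H) (Matrix.toLin' H) = 0 :=
      LinearMap.ext_basis (Pi.basisFun F _) (Pi.basisFun F _) fun i j => by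
        rw [Pi.basisFun_apply, Pi.basisFun_apply, LinearMap.compl₁₂_apply, Matrix.toLin'_apply, Matrix.toLin'_apply, hcon]; rfl
    obtain ⟨w, hw⟩ := alt_exists_partner (sympBil_nondegenerate (F := F) m).1
      (show (Pi.single (Sum.inl ⟨0, hm⟩) 1 : Vm) ≠ 0 by simp)
    have h3 := LinearMap.congr_fun₂ h2
      (((h0⁻¹ : GL (Fin m ⊕ Fin m) F) : Matrix (Fin m ⊕ Fin m) (Fin m ⊕ Fin m) F) *ᵥ Pi.single (Sum.inl ⟨0, hm⟩) 1)
      (((h0⁻¹ : GL (Fin m ⊕ Fin m) F) : Matrix (Fin m ⊕ Fin m) (Fin m ⊕ Fin m) F) *ᵥ w)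
    simp only [H, LinearMap.compl₁₂_apply, Matrix.toLin'_apply, Matrix.mulVec_mulVec, ← Units.val_mul, mul_inv_cancel,
      Units.val_one, Matrix.one_mulVec] at h3
    rw [hw] at h3
    simp at h3
  set z := sympBil F m (H *ᵥ Pi.single a 1) (H *ᵥ Pi.single b 1)
  have hz : z = (μ : F) * σ z := hM a b
  obtain ⟨k, hk⟩ := exists_symp_matrix (AutPSL.fixField σ) h0 z hab (fun i j => by
    rw [AutPSL.mem_fixField, map_div₀]
    conv_rhs => rw [hM i j, hz]
    rw [mul_div_mul_left _ _ μ.ne_zero])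
  refine ⟨⟨_, hk⟩, ?_⟩
  rw [eq_mul_inv_iff_mul_eq, semiAut_mul, semiAut_mul, map_one, mul_one, one_mul, mul_one]
  congr 1
  refine Subtype.ext ?_
  show (A' : GL (Fin m ⊕ Fin m) F) *
    Matrix.GeneralLinearGroup.map σ.toRingHom (h0 * Matrix.GeneralLinearGroup.map (AutPSL.fixField σ).subtype k) =
      h0 * Matrix.GeneralLinearGroup.map (AutPSL.fixField σ).subtype k
  rw [map_mul, ← mul_assoc, hA0]
  congr 1
  exact Units.ext (Matrix.ext fun i j => ((k : Matrix (Fin m ⊕ Fin m) (Fin m ⊕ Fin m) (AutPSL.fixField σ)) i j).2)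

/-- In characteristic two every similitude is a scalar times an isometry. -/
theorem inndiag_eq_inn_of_char_two (h2 : (2 : F) = 0) : Cfsg.inndiagPSp m F = Cfsg.Inn PSpm := by
  have hconj : ∀ s : Matrix.symplecticGroup (Fin m) F, ∀ A : GSpm,
      gmat A = (s : Matrix (Fin m ⊕ Fin m) (Fin m ⊕ Fin m) F) →
      MulAut.conj (QuotientGroup.mk s : PSpm) = semiAut A 1 := fun s A hA => by
    have hi : gmat A⁻¹ = ((s⁻¹ : Matrix.symplecticGroup (Fin m) F) : Matrix (Fin m ⊕ Fin m) (Fin m ⊕ Fin m) F) :=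
      calc gmat A⁻¹ = gmat A⁻¹ * (gmat A * ((s⁻¹ : Matrix.symplecticGroup (Fin m) F) : Matrix (Fin m ⊕ Fin m) (Fin m ⊕ Fin m) F)) := by
            rw [hA, sp_mul_inv, Matrix.mul_one]
        _ = _ := by rw [← Matrix.mul_assoc, gmat_inv_mul, Matrix.one_mul]
    refine MulEquiv.ext fun x => ?_
    induction x using QuotientGroup.induction_on with
    | _ t =>
      rw [MulAut.conj_apply, semiAut_mk, ← QuotientGroup.mk_inv, ← QuotientGroup.mk_mul, ← QuotientGroup.mk_mul]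
      refine congrArg _ (Subtype.ext ?_)
      show _ = gmat A * (t : Matrix (Fin m ⊕ Fin m) (Fin m ⊕ Fin m) F).map (1 : F ≃+* F) * gmat A⁻¹
      rw [hA, hi]
      rfl
  have hmemGSp : ∀ s : Matrix.symplecticGroup (Fin m) F,
      ((spGLEquiv m s : Cfsg.spGL m F) : GL (Fin m ⊕ Fin m) F) ∈ Cfsg.GSp m F := fun s => ⟨1, fun u v => by
    show Cfsg.sympForm m F ((s : Matrix (Fin m ⊕ Fin m) (Fin m ⊕ Fin m) F) *ᵥ u) _ = _
    rw [Units.val_one, one_mul]
    exact (mem_symplecticGroup_iff_preserves m).1 s.2 u v⟩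
  refine le_antisymm ?_ ?_
  · intro β hβ
    obtain ⟨A, rfl⟩ := (inndiag_iff_mem β).1 hβ
    obtain ⟨c, hc⟩ := A.2
    haveI : CharP F 2 := CharTwo.of_one_ne_zero_of_two_eq_zero one_ne_zero h2
    let : Fintype F := Fintype.ofFinite F
    obtain ⟨d, hd⟩ := FiniteField.isSquare_of_char_two (ringChar.eq F 2) ((c⁻¹ : Fˣ) : F)
    have hd0 : d ≠ 0 := fun h0 => (c⁻¹).ne_zero (by rw [hd, h0, mul_zero])
    rw [← semiAut_sclG_mul (Units.mk0 d hd0) A]
    have hmem : gmat (sclG (Units.mk0 d hd0) * A) ∈ Matrix.symplecticGroup (Fin m) F := by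
      rw [mem_symplecticGroup_iff_preserves]
      intro u v
      rw [gmat_mul, sclG_mat, Units.val_mk0, Matrix.smul_mul, Matrix.one_mul, Matrix.smul_mulVec, Matrix.smul_mulVec,
        ← sympBil_apply, map_smul, map_smul, LinearMap.smul_apply, smul_smul, sympBil_apply, hc, ← hd, smul_eq_mul,
        ← mul_assoc, Units.val_inv_eq_inv_val, inv_mul_cancel₀ c.ne_zero, one_mul]
    exact ⟨QuotientGroup.mk (⟨_, hmem⟩ : Matrix.symplecticGroup (Fin m) F), hconj _ _ rfl⟩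
  · rintro _ ⟨g, rfl⟩
    induction g using QuotientGroup.induction_on with
    | _ s => exact (inndiag_iff_mem _).2 ⟨⟨_, hmemGSp s⟩, hconj s _ rfl⟩

theorem inndiag_normal (hm : 2 ≤ m) : (Cfsg.inndiagPSp m F).Normal := by
  by_cases h2 : (2 : F) = 0
  · rw [inndiag_eq_inn_of_char_two h2]; infer_instance
  constructor
  intro δ hδ α
  obtain ⟨B, rfl⟩ := (inndiag_iff_mem δ).1 hδ
  obtain ⟨A, σ, rfl⟩ := exists_semi hm (fun _ => h2) α
  rw [inndiag_iff_mem, semiAut_inv, semiAut_mul, semiAut_mul, mul_one, mul_inv_cancel]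
  exact ⟨_, rfl⟩

end CfsgLib.KnownC.AutPSp
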