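import Cfsg.Agent.Lib.KnownC.AutPSp.Main
import Cfsg.Agent.Lib.KnownC.AutPSp.Balance
import Cfsg.Agent.Lib.Classical.SympMatrix

/-!
The exceptional automorphism of `Sp₄` in characteristic two: the action on a four-dimensional
section of the exterior square. Its square is the squaring field automorphism.
-/

namespace CfsgLib.KnownC.AutPSp

open Matrix CfsgLib.Classical

variable {F : Type*} [Field F]

local notation "I4" => Fin 2 ⊕ Fin 2
local notation "M4" => Matrix (Fin 2 ⊕ Fin 2) (Fin 2 ⊕ Fin 2) F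
local notation "Sp4" => Matrix.symplecticGroup (Fin 2) F
local notation "𝕄" s => (s : Matrix (Fin 2 ⊕ Fin 2) (Fin 2 ⊕ Fin 2) F)

/-- The four pairs of coordinates without a hyperbolic pair. -/
def isoPair : I4 → I4 × I4 :=
  Sum.elim ![(Sum.inl 0, Sum.inl 1), (Sum.inl 0, Sum.inr 1)] ![(Sum.inr 0, Sum.inr 1), (Sum.inl 1, Sum.inr 0)]

/-- A two-by-two minor. -/
def minor2 (g : M4) (r c : I4 × I4) : F := g r.1 c.1 * g r.2 c.2 - g r.1 c.2 * g r.2 c.1

/-- The matrix of minors on the isotropic pairs. -/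
def wedgeMat (g : M4) : M4 := Matrix.of fun r c => minor2 g (isoPair r) (isoPair c)

theorem isoPair_J (r : I4) : Matrix.J (Fin 2) F (isoPair r).1 (isoPair r).2 = 0 := by
  rcases r with i | i <;> fin_cases i <;> simp [isoPair, Matrix.J]

theorem row_orth {g : M4} (hg : g ∈ Matrix.symplecticGroup (Fin 2) F) (r : I4) :
    g (isoPair r).1 (Sum.inr 0) * g (isoPair r).2 (Sum.inl 0) - g (isoPair r).1 (Sum.inl 0) * g (isoPair r).2 (Sum.inr 0) +
      (g (isoPair r).1 (Sum.inr 1) * g (isoPair r).2 (Sum.inl 1) -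
        g (isoPair r).1 (Sum.inl 1) * g (isoPair r).2 (Sum.inr 1)) = 0 := by
  have h := congrFun (congrFun (SymplecticGroup.mem_iff.1 hg) (isoPair r).1) (isoPair r).2
  rw [isoPair_J] at h
  rw [← h]
  simp [Matrix.mul_apply, Matrix.J, Fintype.sum_sum_type, Fin.sum_univ_two, Matrix.one_apply]
  ring

theorem col_orth {g : M4} (hg : g ∈ Matrix.symplecticGroup (Fin 2) F) (c : I4) :
    g (Sum.inr 0) (isoPair c).1 * g (Sum.inl 0) (isoPair c).2 - g (Sum.inl 0) (isoPair c).1 * g (Sum.inr 0) (isoPair c).2 +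
      (g (Sum.inr 1) (isoPair c).1 * g (Sum.inl 1) (isoPair c).2 -
        g (Sum.inl 1) (isoPair c).1 * g (Sum.inr 1) (isoPair c).2) = 0 := by
  have h := congrFun (congrFun (SymplecticGroup.mem_iff'.1 hg) (isoPair c).1) (isoPair c).2
  rw [isoPair_J] at h
  rw [← h]
  simp [Matrix.mul_apply, Matrix.J, Fintype.sum_sum_type, Fin.sum_univ_two, Matrix.one_apply]
  ring

theorem minor_mul (h2 : (2 : F) = 0) (g h : M4) (i j k l : I4)
    (ha : g i (Sum.inr 0) * g j (Sum.inl 0) - g i (Sum.inl 0) * g j (Sum.inr 0) +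
      (g i (Sum.inr 1) * g j (Sum.inl 1) - g i (Sum.inl 1) * g j (Sum.inr 1)) = 0)
    (hb : h (Sum.inr 0) k * h (Sum.inl 0) l - h (Sum.inl 0) k * h (Sum.inr 0) l +
      (h (Sum.inr 1) k * h (Sum.inl 1) l - h (Sum.inl 1) k * h (Sum.inr 1) l) = 0) :
    minor2 (g * h) (i, j) (k, l) = ∑ p, minor2 g (i, j) (isoPair p) * minor2 h (isoPair p) (k, l) := by
  simp only [minor2, Matrix.mul_apply, Fintype.sum_sum_type, Fin.sum_univ_two, isoPair, Sum.elim_inl, Sum.elim_inr,
    Matrix.cons_val_zero, Matrix.cons_val_one]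
  linear_combination
    (-(h (Sum.inl 0) k * h (Sum.inr 0) l - h (Sum.inl 0) l * h (Sum.inr 0) k)) * ha +
    (-(g i (Sum.inl 1) * g j (Sum.inr 1) - g i (Sum.inr 1) * g j (Sum.inl 1))) * hb -
    ((g i (Sum.inl 1) * g j (Sum.inr 1) - g i (Sum.inr 1) * g j (Sum.inl 1)) *
      (h (Sum.inl 0) k * h (Sum.inr 0) l - h (Sum.inl 0) l * h (Sum.inr 0) k)) * h2

theorem wedge_mul (h2 : (2 : F) = 0) {g h : M4} (hg : g ∈ Matrix.symplecticGroup (Fin 2) F)
    (hh : h ∈ Matrix.symplecticGroup (Fin 2) F) : wedgeMat (g * h) = wedgeMat g * wedgeMat h := by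
  ext r c
  simp only [wedgeMat, Matrix.of_apply, Matrix.mul_apply (M := Matrix.of _)]
  exact minor_mul h2 g h _ _ _ _ (row_orth hg r) (col_orth hh c)

theorem wedge_J (h2 : (2 : F) = 0) : wedgeMat (Matrix.J (Fin 2) F) = Matrix.J (Fin 2) F := by
  ext r c
  rcases r with i | i <;> rcases c with k | k <;> fin_cases i <;> fin_cases k <;>
    simp [wedgeMat, minor2, isoPair, Matrix.J] <;> linear_combination h2

theorem wedge_transpose (g : M4) : wedgeMat gᵀ = (wedgeMat g)ᵀ := by
  ext r c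
  simp only [wedgeMat, minor2, Matrix.of_apply, Matrix.transpose_apply]
  ring

theorem wedge_one : wedgeMat (1 : M4) = 1 := by
  ext r c
  rcases r with i | i <;> rcases c with k | k <;> fin_cases i <;> fin_cases k <;> simp [wedgeMat, minor2, isoPair, Matrix.one_apply]

theorem wedge_mem (h2 : (2 : F) = 0) {g : M4} (hg : g ∈ Matrix.symplecticGroup (Fin 2) F) :
    wedgeMat g ∈ Matrix.symplecticGroup (Fin 2) F := by
  have hJ : Matrix.J (Fin 2) F ∈ Matrix.symplecticGroup (Fin 2) F := SymplecticGroup.J_mem _ _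
  rw [SymplecticGroup.mem_iff]
  conv_lhs => rw [← wedge_J h2, ← wedge_transpose, ← wedge_mul h2 hg hJ,
    ← wedge_mul h2 (mul_mem hg hJ) (SymplecticGroup.transpose_mem hg), SymplecticGroup.mem_iff.1 hg]
  rw [wedge_J h2]

/-- The exceptional endomorphism. -/
def wedgeHom (h2 : (2 : F) = 0) : Sp4 →* Sp4 where
  toFun s := ⟨wedgeMat (𝕄 s), wedge_mem h2 s.2⟩
  map_one' := Subtype.ext wedge_one
  map_mul' s t := Subtype.ext (wedge_mul h2 s.2 t.2)

theorem wedge_wedge_transvection (h2 : (2 : F) = 0) (v : I4 → F) (c : F) :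
    wedgeMat (wedgeMat (Cfsg.sympTransvection 2 v c)) = (Cfsg.sympTransvection 2 v c).map fun x => x ^ 2 := by
  haveI : CharP F 2 := CharTwo.of_one_ne_zero_of_two_eq_zero one_ne_zero h2
  have h3 : (3 : F) = 1 := by linear_combination h2
  have h4 : (4 : F) = 0 := by linear_combination 2 * h2
  have h5 : (5 : F) = 1 := by linear_combination 2 * h2
  have h6 : (6 : F) = 0 := by linear_combination 3 * h2
  have h7 : (7 : F) = 1 := by linear_combination 3 * h2
  have h8 : (8 : F) = 0 := by linear_combination 4 * h2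
  ext r k
  rcases r with i | i <;> rcases k with k | k <;> fin_cases i <;> fin_cases k <;>
    simp [wedgeMat, minor2, isoPair, Cfsg.sympTransvection, Matrix.J, Matrix.mulVec, dotProduct,
      Fintype.sum_sum_type, Fin.sum_univ_two, Matrix.one_apply, vecMulVec_apply, CharTwo.neg_eq,
      CharTwo.sub_eq_add] <;>
    ring_nf <;> simp [h2, h3, h4, h5, h6, h7, h8]

variable [Fintype F]

/-- Squaring as an automorphism of the field. -/
noncomputable def sqAut (h2 : (2 : F) = 0) : F ≃+* F :=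
  haveI : CharP F 2 := CharTwo.of_one_ne_zero_of_two_eq_zero one_ne_zero h2
  haveI : Fact (Nat.Prime 2) := ⟨Nat.prime_two⟩
  haveI : ExpChar F 2 := ExpChar.prime Nat.prime_two
  frobeniusEquiv F 2

theorem sqAut_apply (h2 : (2 : F) = 0) (x : F) : sqAut h2 x = x ^ 2 := rfl

theorem wedgeHom_wedgeHom (h2 : (2 : F) = 0) :
    (wedgeHom h2).comp (wedgeHom h2) = semiHom (1 : Cfsg.GSp 2 F) (sqAut h2) := by
  refine MonoidHom.eq_of_eqOn_dense (closure_sympTransvection (m := 2) (F := F)) ?_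
  rintro A ⟨w, c, hA⟩
  refine Subtype.ext ?_
  show _ = (𝕄 (semiHom (1 : Cfsg.GSp 2 F) (sqAut h2) A))
  rw [semiHom_std]
  show wedgeMat (wedgeMat (𝕄 A)) = _
  rw [hA, wedge_wedge_transvection h2]
  ext i j
  simp [sqAut_apply]

theorem wedgeHom_bijective (h2 : (2 : F) = 0) : Function.Bijective (wedgeHom (F := F) h2) := by
  have hinj : Function.Injective (wedgeHom (F := F) h2) := fun a b e => by
    refine (semiSp (1 : Cfsg.GSp 2 F) (sqAut h2)).injective ?_
    show semiHom 1 (sqAut h2) a = semiHom 1 (sqAut h2) b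
    rw [← wedgeHom_wedgeHom h2, MonoidHom.comp_apply, MonoidHom.comp_apply, e]
  exact Finite.injective_iff_bijective.1 hinj

/-- The exceptional automorphism of `PSp₄(2^f)`. -/
noncomputable def excAut (h2 : (2 : F) = 0) : MulAut (Cfsg.PSp 2 F) :=
  QuotientGroup.congr _ _ (MulEquiv.ofBijective (wedgeHom h2) (wedgeHom_bijective h2)) (center_map _)

theorem excAut_mk (h2 : (2 : F) = 0) (s : Sp4) : excAut h2 (QuotientGroup.mk s) = QuotientGroup.mk (wedgeHom h2 s) := rfl

theorem excAut_sq (h2 : (2 : F) = 0) : excAut h2 * excAut h2 = semiAut (1 : Cfsg.GSp 2 F) (sqAut h2) := by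
  refine MulEquiv.ext fun x => ?_
  induction x using QuotientGroup.induction_on with
  | _ s =>
    rw [semiAut_mk, ← wedgeHom_wedgeHom h2]
    rfl

theorem center_eq_bot_of_two (h2 : (2 : F) = 0) : Subgroup.center Sp4 = ⊥ := by
  rw [Subgroup.eq_bot_iff_forall]
  intro s hs
  rcases sp_center_eq 2 hs with h | h
  · exact Subtype.ext h
  · refine Subtype.ext (h.trans ?_)
    ext i j
    rw [Matrix.neg_apply]
    linear_combination (-((1 : M4) i j)) * h2

theorem excAut_not_mem (h2 : (2 : F) = 0) (A : Cfsg.GSp 2 F) (σ : F ≃+* F) : excAut h2 ≠ semiAut A σ := by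
  intro h
  set t : Sp4 := spT (Pi.single (Sum.inl 0) 1) 1
  have e := congrArg (fun β : MulAut (Cfsg.PSp 2 F) => β (QuotientGroup.mk t)) h
  simp only [excAut_mk, semiAut_mk] at e
  rw [QuotientGroup.eq, center_eq_bot_of_two h2, Subgroup.mem_bot, inv_mul_eq_one] at e
  have ht : (𝕄 t) = 1 + Matrix.single (Sum.inl 0) (Sum.inr 0) 1 := by
    show Cfsg.sympTransvection 2 _ _ = _
    ext i j
    rcases i with i | i <;> rcases j with j | j <;> fin_cases i <;> fin_cases j <;>
      simp [Cfsg.sympTransvection, Matrix.J, Matrix.mulVec, dotProduct, Fintype.sum_sum_type, Fin.sum_univ_two,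
        Matrix.one_apply, vecMulVec_apply, Matrix.single_apply] <;> linear_combination h2
  have hR : (𝕄 (semiHom A σ t)) - 1 =
      Matrix.vecMulVec (fun i => gmat A i (Sum.inl 0)) fun j => gmat A⁻¹ (Sum.inr 0) j := by
    show gmat A * (𝕄 t).map σ * gmat A⁻¹ - 1 = _
    rw [ht]
    rw [show Matrix.map ((1 : M4) + (Matrix.single (Sum.inl 0) (Sum.inr 0) (1 : F) : M4)) σ = (1 : M4) + (Matrix.single (Sum.inl 0) (Sum.inr 0) (1 : F) : M4) by
      ext i j; simp [Matrix.one_apply, Matrix.single_apply, apply_ite σ],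
      Matrix.mul_add, Matrix.mul_one, Matrix.add_mul, gmat_mul_inv, add_sub_cancel_left]
    ext i j
    simp [Matrix.mul_apply, Matrix.single_apply, vecMulVec_apply, ite_and]
  have e' : (𝕄 (wedgeHom h2 t)) - 1 =
      Matrix.vecMulVec (fun i => gmat A i (Sum.inl 0)) fun j => gmat A⁻¹ (Sum.inr 0) j := by rw [e, hR]
  have key : ∀ i j k l, ((𝕄 (wedgeHom h2 t)) - 1) i k * ((𝕄 (wedgeHom h2 t)) - 1) j l =
      ((𝕄 (wedgeHom h2 t)) - 1) i l * ((𝕄 (wedgeHom h2 t)) - 1) j k := fun i j k l => by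
    rw [e']; simp only [vecMulVec_apply]; ring
  have k1 := key (Sum.inl 0) (Sum.inl 1) (Sum.inr 1) (Sum.inr 0)
  rw [show (𝕄 (wedgeHom h2 t)) = wedgeMat (𝕄 t) from rfl, ht] at k1
  simp [wedgeMat, minor2, isoPair, Matrix.single_apply, Matrix.one_apply] at k1

end CfsgLib.KnownC.AutPSp
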