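import Cfsg.Agent.Lib.KnownC.AutPSp.Descent
import Cfsg.Agent.Lib.KnownC.AutPSL.SplitGen

set_option autoImplicit false
set_option linter.unusedSectionVars false

/-! Centraliser and class splitting of a field automorphism of `PSp_{2m}`. -/

namespace CfsgLib.KnownC.AutPSp

open Matrix CfsgLib.Classical

variable {F : Type*} [Field F] {m : ℕ}

local notation "PSpm" => Cfsg.PSp m F
local notation "GSpm" => Cfsg.GSp m F
local notation "Vm" => Vec F m

theorem simil_matrix (M : Matrix (Fin m ⊕ Fin m) (Fin m ⊕ Fin m) F) (c : F) :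
    (∀ u v, Cfsg.sympForm m F (M *ᵥ u) (M *ᵥ v) = c * Cfsg.sympForm m F u v) ↔
      Mᵀ * Matrix.J (Fin m) F * M = c • Matrix.J (Fin m) F := by
  have key : ∀ u v, Cfsg.sympForm m F (M *ᵥ u) (M *ᵥ v) = u ⬝ᵥ (Mᵀ * Matrix.J (Fin m) F * M) *ᵥ v := fun u v => by
    rw [Cfsg.sympForm, ← Matrix.mulVec_mulVec, ← Matrix.mulVec_mulVec,
      Matrix.dotProduct_mulVec u Mᵀ, Matrix.vecMul_transpose]
  simp only [key]
  simp only [Cfsg.sympForm]
  refine ⟨fun h => ?_, fun h u v => by rw [h, Matrix.smul_mulVec, dotProduct_smul, smul_eq_mul]⟩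
  ext i j
  simpa [Matrix.mulVec_single, dotProduct, Pi.single_apply] using h (Pi.single i 1) (Pi.single j 1)

theorem map_J' {F₀ : Type*} [Field F₀] (ι : F₀ →+* F) : (Matrix.J (Fin m) F₀).map ι = Matrix.J (Fin m) F := by
  ext i j
  rcases i with i | i <;> rcases j with j | j <;> simp [Matrix.J, Matrix.one_apply, apply_ite ι]

theorem map_smul_J {F₀ : Type*} [Field F₀] (ι : F₀ →+* F) (c : F₀) :
    (c • Matrix.J (Fin m) F₀).map ι = ι c • Matrix.J (Fin m) F := by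
  rw [← map_J' ι]
  ext i j
  show ι (c * _) = ι c * ι _
  rw [map_mul]

theorem J_pair (hm : 1 ≤ m) :
    (Matrix.J (Fin m) F : Matrix (Fin m ⊕ Fin m) (Fin m ⊕ Fin m) F) (Sum.inl (⟨0, hm⟩ : Fin m))
      (Sum.inr (⟨0, hm⟩ : Fin m)) = -1 := by
  show Matrix.fromBlocks (0 : Matrix (Fin m) (Fin m) F) (-1 : Matrix (Fin m) (Fin m) F) (1 : Matrix (Fin m) (Fin m) F)
    (0 : Matrix (Fin m) (Fin m) F) (Sum.inl (⟨0, hm⟩ : Fin m)) (Sum.inr (⟨0, hm⟩ : Fin m)) = -1
  simp

theorem form_single_pair (hm : 1 ≤ m) :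
    Cfsg.sympForm m F (Pi.single (Sum.inl ⟨0, hm⟩) 1) (Pi.single (Sum.inr ⟨0, hm⟩) 1) = -1 := by
  rw [← sympBil_apply, form_single_inl]; simp

/-- The multiplier of a similitude. -/
noncomputable def multHom (hm : 1 ≤ m) : GSpm →* Fˣ :=
  MonoidHom.mk' (fun A => Classical.choose A.2) (fun A B => by
    have hA := Classical.choose_spec A.2
    have hB := Classical.choose_spec B.2
    have hAB := Classical.choose_spec (A * B).2
    have h := hAB (Pi.single (Sum.inl ⟨0, hm⟩) 1) (Pi.single (Sum.inr ⟨0, hm⟩) 1)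
    have e : ∀ w : Vm, (((A * B : GSpm) : GL (Fin m ⊕ Fin m) F) : Matrix (Fin m ⊕ Fin m) (Fin m ⊕ Fin m) F) *ᵥ w =
        gmat A *ᵥ (gmat B *ᵥ w) := fun w => by rw [Matrix.mulVec_mulVec]; rfl
    rw [e, e, hA, hB, form_single_pair hm] at h
    refine Units.ext ?_
    rw [Units.val_mul]
    linear_combination h)

theorem multHom_spec (hm : 1 ≤ m) (A : GSpm) (u v : Vm) :
    Cfsg.sympForm m F (gmat A *ᵥ u) (gmat A *ᵥ v) = (multHom hm A : F) * Cfsg.sympForm m F u v :=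
  Classical.choose_spec A.2 u v

theorem multHom_eq (hm : 1 ≤ m) (A : GSpm) (c : F)
    (h : ∀ u v, Cfsg.sympForm m F (gmat A *ᵥ u) (gmat A *ᵥ v) = c * Cfsg.sympForm m F u v) :
    (multHom hm A : F) = c := by
  have h1 := (multHom_spec hm A (Pi.single (Sum.inl ⟨0, hm⟩) 1) (Pi.single (Sum.inr ⟨0, hm⟩) 1)).symm.trans (h _ _)
  rw [form_single_pair hm] at h1
  linear_combination -h1

theorem multHom_sclG (hm : 1 ≤ m) (c : Fˣ) : multHom hm (sclG c : GSpm) = c ^ 2 := Units.ext (by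
  refine multHom_eq hm _ _ fun u v => ?_
  rw [sclG_mat, Matrix.smul_mulVec, Matrix.one_mulVec, Matrix.smul_mulVec, Matrix.one_mulVec, ← sympBil_apply,
    map_smul, map_smul, LinearMap.smul_apply, smul_smul, smul_eq_mul, sympBil_apply, Units.val_pow_eq_pow_val, sq])

theorem multHom_surjective (hm : 1 ≤ m) : Function.Surjective (multHom (F := F) (m := m) hm) := fun c => by
  let g : GL (Fin m ⊕ Fin m) F := ⟨Matrix.diagonal (Sum.elim (fun _ => (c : F)) fun _ => 1),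
    Matrix.diagonal (Sum.elim (fun _ => ((c⁻¹ : Fˣ) : F)) fun _ => 1), by
      rw [Matrix.diagonal_mul_diagonal, ← Matrix.diagonal_one]; congr 1; funext i; cases i <;> simp, by
      rw [Matrix.diagonal_mul_diagonal, ← Matrix.diagonal_one]; congr 1; funext i; cases i <;> simp⟩
  have hform : ∀ u v, Cfsg.sympForm m F ((g : Matrix _ _ F) *ᵥ u) ((g : Matrix _ _ F) *ᵥ v) =
      (c : F) * Cfsg.sympForm m F u v := fun u v => by
    show Cfsg.sympForm m F (Matrix.diagonal (Sum.elim (fun _ => (c : F)) fun _ => 1) *ᵥ u)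
      (Matrix.diagonal (Sum.elim (fun _ => (c : F)) fun _ => 1) *ᵥ v) = _
    rw [sympForm_eq, sympForm_eq, Finset.mul_sum]
    exact Finset.sum_congr rfl fun i _ => by simp [Matrix.mulVec_diagonal]; ring
  exact ⟨⟨g, ⟨c, hform⟩⟩, Units.ext (multHom_eq hm _ _ hform)⟩

theorem gsp_conj (s : Matrix.symplecticGroup (Fin m) F) (A : GSpm)
    (hA : gmat A = (s : Matrix (Fin m ⊕ Fin m) (Fin m ⊕ Fin m) F)) :
    MulAut.conj (QuotientGroup.mk s : PSpm) = semiAut A 1 := by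
  have hi : gmat A⁻¹ = ((s⁻¹ : Matrix.symplecticGroup (Fin m) F) : Matrix (Fin m ⊕ Fin m) (Fin m ⊕ Fin m) F) :=
    calc gmat A⁻¹ = gmat A⁻¹ * (gmat A * ((s⁻¹ : Matrix.symplecticGroup (Fin m) F) : Matrix (Fin m ⊕ Fin m) (Fin m ⊕ Fin m) F)) := by
          rw [hA, sp_mul_inv, Matrix.mul_one]
      _ = _ := by rw [← Matrix.mul_assoc, gmat_inv_mul, Matrix.one_mul]
  refine MulEquiv.ext fun x => ?_
  induction x using QuotientGroup.induction_on with
  | _ t =>
    rw [MulAut.conj_apply, semiAut_mk, ← QuotientGroup.mk_inv, ← QuotientGroup.mk_mul, ← QuotientGroup.mk_mul]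
    refine congrArg _ (Subtype.ext ?_)
    show _ = gmat A * (t : Matrix (Fin m ⊕ Fin m) (Fin m ⊕ Fin m) F).map (1 : F ≃+* F) * gmat A⁻¹
    rw [hA, hi]
    rfl

/-- The symplectic group inside the similitudes. -/
noncomputable def spToG (s : Matrix.symplecticGroup (Fin m) F) : GSpm :=
  ⟨((spGLEquiv m s : Cfsg.spGL m F) : GL (Fin m ⊕ Fin m) F), ⟨1, fun u v => by
    show Cfsg.sympForm m F ((s : Matrix (Fin m ⊕ Fin m) (Fin m ⊕ Fin m) F) *ᵥ u) _ = _
    rw [Units.val_one, one_mul]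
    exact (mem_symplecticGroup_iff_preserves m).1 s.2 u v⟩⟩

theorem gmat_spToG (s : Matrix.symplecticGroup (Fin m) F) :
    gmat (spToG s) = (s : Matrix (Fin m ⊕ Fin m) (Fin m ⊕ Fin m) F) := rfl

theorem inn_le_inndiag : Cfsg.Inn PSpm ≤ Cfsg.inndiagPSp m F := by
  rintro _ ⟨g, rfl⟩
  induction g using QuotientGroup.induction_on with
  | _ s => exact (inndiag_iff_mem _).2 ⟨spToG s, gsp_conj s _ (gmat_spToG s)⟩

/-- Inner exactly when the multiplier is a square. -/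
theorem mem_inn_iff (hm : 1 ≤ m) (A : GSpm) :
    semiAut A 1 ∈ Cfsg.Inn PSpm ↔ multHom hm A ∈ (powMonoidHom 2 : Fˣ →* Fˣ).range := by
  constructor
  · rintro ⟨g, hg⟩
    induction g using QuotientGroup.induction_on with
    | _ s =>
      rw [gsp_conj s _ (gmat_spToG s)] at hg
      obtain ⟨-, c, rfl⟩ := (semi_eq_iff hm).1 hg.symm
      refine ⟨c, ?_⟩
      have h1 : multHom hm (spToG s) = 1 := Units.ext (multHom_eq hm _ _ fun u v => by
        rw [Units.val_one, one_mul, gmat_spToG]; exact (mem_symplecticGroup_iff_preserves m).1 s.2 u v)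
      rw [map_mul, multHom_sclG, h1, mul_one]; rfl
  · rintro ⟨c, hc⟩
    have hmem : gmat (sclG c⁻¹ * A) ∈ Matrix.symplecticGroup (Fin m) F := by
      rw [mem_symplecticGroup_iff_preserves]
      intro u v
      rw [multHom_spec hm, map_mul, multHom_sclG, ← hc, powMonoidHom_apply, inv_pow, inv_mul_cancel, Units.val_one,
        one_mul]
    exact ⟨QuotientGroup.mk (⟨_, hmem⟩ : Matrix.symplecticGroup (Fin m) F), by
      rw [gsp_conj _ (sclG c⁻¹ * A) rfl, semiAut_sclG_mul]⟩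

/-- Base change of a similitude along a ring homomorphism. -/
noncomputable def baseChange {F₀ : Type*} [Field F₀] (ι : F₀ →+* F) : Cfsg.GSp m F₀ →* GSpm :=
  MonoidHom.codRestrict ((Matrix.GeneralLinearGroup.map ι).comp (Cfsg.GSp m F₀).subtype) _ (fun B => by
    obtain ⟨c, hc⟩ := B.2
    refine ⟨Units.map ι.toMonoidHom c, (simil_matrix _ _).2 ?_⟩
    have h := congrArg (fun M : Matrix (Fin m ⊕ Fin m) (Fin m ⊕ Fin m) F₀ => M.map ι) ((simil_matrix _ _).1 hc)
    simp only [Matrix.map_mul, Matrix.transpose_map, map_J', map_smul_J] at h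
    exact h)

theorem gmat_baseChange {F₀ : Type*} [Field F₀] (ι : F₀ →+* F) (B : Cfsg.GSp m F₀) :
    gmat (baseChange ι B) = (gmat B).map ι := rfl

theorem multHom_baseChange (hm : 1 ≤ m) {F₀ : Type*} [Field F₀] (ι : F₀ →+* F) (B : Cfsg.GSp m F₀) :
    (multHom hm (baseChange ι B) : F) = ι (multHom hm B : F₀) := by
  refine multHom_eq hm _ _ ?_
  rw [simil_matrix, gmat_baseChange]
  have h := congrArg (fun M : Matrix (Fin m ⊕ Fin m) (Fin m ⊕ Fin m) F₀ => M.map ι)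
    ((simil_matrix _ _).1 (multHom_spec hm B))
  simp only [Matrix.map_mul, Matrix.transpose_map, map_J', map_smul_J] at h
  exact h

theorem baseChange_fixed {F₀ : Type*} [Field F₀] (ι : F₀ →+* F) (σ : F ≃+* F) (hι : ∀ x, σ (ι x) = ι x)
    (B : Cfsg.GSp m F₀) : gMap σ (baseChange ι B) = baseChange ι B := gmat_ext (by
  rw [gMap_coe, gmat_baseChange]; ext i j; exact hι _)

variable [Finite F]

/-- Commuting with the standard field automorphism: defined over the fixed field up to a scalar. -/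
theorem commute_iff (hm : 1 ≤ m) {F₀ : Type*} [Field F₀] (ι : F₀ →+* F) (σ : F ≃+* F)
    (hι : ∀ x, σ x = x ↔ x ∈ Set.range ι) {r : ℕ} (hσ : orderOf σ = r) (hr : 1 ≤ r) (A : GSpm) :
    semiAut A 1 * semiAut 1 σ = semiAut 1 σ * semiAut A 1 ↔
      ∃ (B : Cfsg.GSp m F₀) (c : Fˣ), A = sclG c * baseChange ι B := by
  rw [semiAut_mul, semiAut_mul, map_one, mul_one, one_mul, mul_one, one_mul, semi_eq_iff hm]
  constructor
  · rintro ⟨-, c, hc⟩
    have hA : ∀ k (u : Fˣ), (u : F) = AutPSL.nrm σ k c → A = sclG u * gMap (σ ^ k) A := by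
      intro k
      induction k with
      | zero =>
        intro u hu
        rw [show u = 1 from Units.ext hu, sclG_one, one_mul, pow_zero, gMap_one]
      | succ k ih =>
        intro u hu
        have hne : AutPSL.nrm σ k (c : F) ≠ 0 := fun h0 => u.ne_zero (by rw [hu, AutPSL.nrm, h0, map_zero, mul_zero])
        have h1 := ih (Units.mk0 _ hne) rfl
        have hu' : u = c * Units.map σ.toRingHom.toMonoidHom (Units.mk0 _ hne) := Units.ext hu
        conv_lhs => rw [hc, h1]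
        rw [map_mul, gMap_sclG, hu', sclG_mul, mul_assoc, pow_succ', gMap_gMap]
    have hne : AutPSL.nrm σ r (c : F) ≠ 0 := by
      have key : ∀ k, AutPSL.nrm σ k (c : F) ≠ 0 := fun k => by
        induction k with
        | zero => simp [AutPSL.nrm]
        | succ k ih => simp [AutPSL.nrm, ih, c.ne_zero]
      exact key r
    have h1 := hA r (Units.mk0 _ hne) rfl
    have hr1 : σ ^ r = 1 := hσ ▸ pow_orderOf_eq_one σ
    rw [hr1, gMap_one] at h1
    have hnc : AutPSL.nrm σ r (c : F) = 1 :=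
      congrArg Units.val (sclG_injective hm ((mul_eq_right.1 h1.symm).trans sclG_one.symm))
    obtain ⟨h, h0, hh⟩ := AutPSL.hilbert90 σ hσ hr (c : F) hnc
    set u := Units.mk0 h h0
    have hu : Units.map σ.toRingHom.toMonoidHom u = c⁻¹ * u := by
      rw [eq_inv_mul_iff_mul_eq]; exact Units.ext hh
    have hfix : gMap σ (sclG u⁻¹ * A) = sclG u⁻¹ * A := by
      rw [map_mul, gMap_sclG, map_inv, hu, _root_.mul_inv_rev, inv_inv, sclG_mul, mul_assoc, ← hc]
    have hfix' : gMap σ (sclG u⁻¹ * A)⁻¹ = (sclG u⁻¹ * A)⁻¹ := by rw [map_inv, hfix]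
    have hpre : ∀ G : GSpm, gMap σ G = G → ∃ M : Matrix (Fin m ⊕ Fin m) (Fin m ⊕ Fin m) F₀, M.map ι = gmat G := fun G hG => by
      have hij : ∀ i j, gmat G i j ∈ Set.range ι := fun i j => (hι _).1
        (congrFun (congrFun (congrArg gmat hG) i) j)
      choose M hM using hij
      exact ⟨Matrix.of M, Matrix.ext hM⟩
    obtain ⟨M, hM⟩ := hpre _ hfix
    obtain ⟨N, hN⟩ := hpre _ hfix'
    have hinj : Function.Injective (fun M : Matrix (Fin m ⊕ Fin m) (Fin m ⊕ Fin m) F₀ => M.map ι) :=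
      Matrix.map_injective ι.injective
    let g : GL (Fin m ⊕ Fin m) F₀ := ⟨M, N,
      hinj (by simp only [Matrix.map_mul, hM, hN, Matrix.map_one _ (map_zero ι) (map_one ι)]; exact gmat_mul_inv _),
      hinj (by simp only [Matrix.map_mul, hM, hN, Matrix.map_one _ (map_zero ι) (map_one ι)]; exact gmat_inv_mul _)⟩
    have hg : g ∈ Cfsg.GSp m F₀ := by
      obtain ⟨c', hc'⟩ : ∃ c' : F₀, ι c' = (multHom hm (sclG u⁻¹ * A) : F) := by
        have hmu := (simil_matrix _ _).1 (multHom_spec hm (sclG u⁻¹ * A))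
        rw [← hM] at hmu
        refine ⟨-((Mᵀ * Matrix.J (Fin m) F₀ * M : Matrix (Fin m ⊕ Fin m) (Fin m ⊕ Fin m) F₀) (Sum.inl ⟨0, hm⟩)
          (Sum.inr ⟨0, hm⟩)), ?_⟩
        rw [← map_J' ι, ← Matrix.transpose_map, ← Matrix.map_mul, ← Matrix.map_mul, map_J'] at hmu
        have e1 : ι ((Mᵀ * Matrix.J (Fin m) F₀ * M : Matrix (Fin m ⊕ Fin m) (Fin m ⊕ Fin m) F₀) (Sum.inl ⟨0, hm⟩)
          (Sum.inr ⟨0, hm⟩)) = (multHom hm (sclG u⁻¹ * A) : F) * Matrix.J (Fin m) F (Sum.inl ⟨0, hm⟩) (Sum.inr ⟨0, hm⟩) :=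
          congrFun (congrFun hmu (Sum.inl ⟨0, hm⟩)) (Sum.inr ⟨0, hm⟩)
        rw [map_neg, e1, J_pair]
        ring
      have hc0 : c' ≠ 0 := fun h0 => (multHom hm (sclG u⁻¹ * A)).ne_zero (by rw [← hc', h0, map_zero])
      refine ⟨Units.mk0 c' hc0, (simil_matrix _ _).2 (hinj ?_)⟩
      simp only [Matrix.map_mul, Matrix.transpose_map, map_J', map_smul_J]
      show ((M.map ι)ᵀ * Matrix.J (Fin m) F * M.map ι) = ι c' • Matrix.J (Fin m) F
      rw [hM, (simil_matrix _ _).1 (multHom_spec hm (sclG u⁻¹ * A)), hc']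
    refine ⟨⟨g, hg⟩, u, ?_⟩
    have e : baseChange ι ⟨g, hg⟩ = sclG u⁻¹ * A := gmat_ext (by rw [gmat_baseChange]; exact hM)
    rw [e, ← mul_assoc, ← sclG_mul, mul_inv_cancel, sclG_one, one_mul]
  · rintro ⟨B, c, rfl⟩
    refine ⟨rfl, c * (Units.map σ.toRingHom.toMonoidHom c)⁻¹, ?_⟩
    rw [map_mul, gMap_sclG, baseChange_fixed ι σ (fun x => (hι _).2 ⟨x, rfl⟩), ← mul_assoc, ← sclG_mul,
      inv_mul_cancel_right]

theorem mem_scalars (hm : 1 ≤ m) {F₀ : Type*} [Field F₀] (ι : F₀ →+* F) (B : Cfsg.GSp m F₀) :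
    semiAut (baseChange ι B) 1 = 1 ↔ (B : GL (Fin m ⊕ Fin m) F₀) ∈ Cfsg.Geo.scalars (Fin m ⊕ Fin m) F₀ := by
  rw [Cfsg.Geo.mem_scalars_iff]
  constructor
  · intro h
    obtain ⟨-, c, hc⟩ := semi_eq_one hm h
    rw [gmat_baseChange] at hc
    have h0 := congrFun (congrFun hc (Sum.inl ⟨0, hm⟩)) (Sum.inl ⟨0, hm⟩)
    simp only [Matrix.map_apply, Matrix.smul_apply, Matrix.one_apply_eq, smul_eq_mul, mul_one] at h0
    have hne : gmat B (Sum.inl ⟨0, hm⟩) (Sum.inl ⟨0, hm⟩) ≠ 0 := fun h1 => c.ne_zero (by rw [← h0, h1, map_zero])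
    refine ⟨Units.mk0 _ hne, Matrix.map_injective ι.injective ?_⟩
    show (gmat B).map ι = _
    rw [hc, ← h0]
    ext i j
    rcases eq_or_ne i j with rfl | hij <;> simp [*]
  · rintro ⟨c, hc⟩
    have e : baseChange ι B = sclG (Units.map ι.toMonoidHom c) := gmat_ext (by
      rw [gmat_baseChange, sclG_mat, show gmat B = _ from hc]
      ext i j
      rcases eq_or_ne i j with rfl | hij <;> simp [*])
    rw [e, semiAut_sclG]

theorem centralizer_std (hm : 1 ≤ m) {F₀ : Type*} [Field F₀] (ι : F₀ →+* F) (σ : F ≃+* F)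
    (hι : ∀ x, σ x = x ↔ x ∈ Set.range ι) {r : ℕ} (hσ : orderOf σ = r) (hr : 1 ≤ r) :
    Nonempty (↥(Cfsg.inndiagPSp m F ⊓ Subgroup.centralizer {semiAut (1 : GSpm) σ}) ≃* Cfsg.PGSp m F₀) := by
  let Φ : Cfsg.GSp m F₀ →* ↥(Cfsg.inndiagPSp m F ⊓ Subgroup.centralizer {semiAut (1 : GSpm) σ}) :=
    MonoidHom.codRestrict (MonoidHom.mk' (fun B => semiAut (baseChange ι B) 1) (fun B C => by
      rw [semiAut_mul, gMap_one, one_mul, map_mul])) _ (fun B => ⟨(inndiag_iff_mem _).2 ⟨_, rfl⟩,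
        Subgroup.mem_centralizer_singleton_iff.2
          ((commute_iff hm ι σ hι hσ hr _).2 ⟨B, 1, by rw [sclG_one, one_mul]⟩)⟩)
  have hΦ : Function.Surjective Φ := by
    rintro ⟨y, hy1, hy2⟩
    obtain ⟨A, rfl⟩ := (inndiag_iff_mem y).1 hy1
    obtain ⟨B, c, rfl⟩ := (commute_iff hm ι σ hι hσ hr A).1 (Subgroup.mem_centralizer_singleton_iff.1 hy2)
    exact ⟨B, Subtype.ext (semiAut_sclG_mul c _ _).symm⟩
  have hker : Φ.ker = (Cfsg.Geo.scalars (Fin m ⊕ Fin m) F₀).subgroupOf (Cfsg.GSp m F₀) := by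
    ext B
    rw [MonoidHom.mem_ker, Subtype.ext_iff, Subgroup.mem_subgroupOf, ← mem_scalars hm ι B]
    exact Iff.rfl
  exact ⟨((QuotientGroup.quotientMulEquivOfEq hker.symm).trans (QuotientGroup.quotientKerEquivOfSurjective Φ hΦ)).symm⟩

theorem split_std (hm : 1 ≤ m) {F₀ : Type*} [Field F₀] (ι : F₀ →+* F) (σ : F ≃+* F)
    (hι : ∀ x, σ x = x ↔ x ∈ Set.range ι) {r : ℕ} (hσ : orderOf σ = r) (hr : 1 ≤ r) :
    Cfsg.splitClassCount (Cfsg.inndiagPSp m F) (Cfsg.Inn PSpm) (semiAut (1 : GSpm) σ) =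
      Nat.gcd 2 ((Nat.card F - 1) / (Nat.card F₀ - 1)) := by
  let π : GSpm →* MulAut PSpm := MonoidHom.mk' (fun A => semiAut A 1) (fun A B => by
    rw [semiAut_mul, gMap_one, one_mul])
  set sq := (powMonoidHom 2 : Fˣ →* Fˣ).range
  let D : GSpm →* Fˣ ⧸ sq := (QuotientGroup.mk' sq).comp (multHom hm)
  have hrange : π.range = Cfsg.inndiagPSp m F := by
    ext β
    rw [inndiag_iff_mem]
    exact ⟨fun ⟨A, h⟩ => ⟨A, h.symm⟩, fun ⟨A, h⟩ => ⟨A, h.symm⟩⟩
  have hD : ∀ A, π A ∈ Cfsg.Inn PSpm ↔ D A = 1 := fun A =>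
    (mem_inn_iff hm A).trans (QuotientGroup.eq_one_iff (N := sq) (multHom hm A)).symm
  have hDs : Function.Surjective D := (QuotientGroup.mk'_surjective sq).comp (multHom_surjective hm)
  have h5 := SplitGen.split_count (Q := Fˣ ⧸ sq) π D
  rw [← hrange, h5 _ hDs hD (hrange ▸ inn_le_inndiag)]
  let K : Subgroup Fˣ := (Units.map ι.toMonoidHom).range
  have hS : ((Subgroup.centralizer {semiAut (1 : GSpm) σ}).comap π).map D = K.map (QuotientGroup.mk' sq) := by
    refine le_antisymm ?_ ?_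
    · rintro _ ⟨A, hA, rfl⟩
      obtain ⟨B, c, rfl⟩ := (commute_iff hm ι σ hι hσ hr A).1 (Subgroup.mem_centralizer_singleton_iff.1 hA)
      refine ⟨Units.map ι.toMonoidHom (multHom hm B), ⟨_, rfl⟩, ?_⟩
      show (QuotientGroup.mk _ : Fˣ ⧸ sq) = QuotientGroup.mk _
      rw [map_mul, multHom_sclG, QuotientGroup.mk_mul,
        show (QuotientGroup.mk (c ^ 2) : Fˣ ⧸ sq) = 1 from (QuotientGroup.eq_one_iff _).2 ⟨c, rfl⟩, one_mul]
      congr 1
      exact Units.ext (multHom_baseChange hm ι B).symm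
    · rintro _ ⟨_, ⟨k, rfl⟩, rfl⟩
      obtain ⟨B, rfl⟩ := multHom_surjective (F := F₀) (m := m) hm k
      refine ⟨baseChange ι B, Subgroup.mem_centralizer_singleton_iff.2
        ((commute_iff hm ι σ hι hσ hr _).2 ⟨B, 1, by rw [sclG_one, one_mul]⟩), ?_⟩
      show (QuotientGroup.mk _ : Fˣ ⧸ sq) = QuotientGroup.mk _
      congr 1
      exact Units.ext (multHom_baseChange hm ι B)
  let : Fintype F := Fintype.ofFinite F
  rw [hS, Subgroup.index_map, QuotientGroup.ker_mk',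
    MonoidHom.range_eq_top.2 (QuotientGroup.mk'_surjective sq), Subgroup.index_top, mul_one, sup_comm,
    AutPSL.index_sup]
  congr 1
  have hK : Nat.card K = Nat.card F₀ - 1 := by
    rw [← Nat.card_congr (MonoidHom.ofInjective (f := Units.map ι.toMonoidHom)
      (Units.map_injective ι.injective)).toEquiv, Nat.card_units]
  have h1 := Subgroup.card_mul_index K
  rw [Nat.card_units, hK] at h1
  have : Finite F₀ := Finite.of_injective ι ι.injective
  have h2 : 1 < Nat.card F₀ := Finite.one_lt_card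
  rw [← h1, Nat.mul_div_cancel_left _ (by omega)]

end CfsgLib.KnownC.AutPSp
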