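import Cfsg.Agent.Lib.KnownC.AutPSp.Rank

set_option autoImplicit false
set_option linter.unusedSectionVars false

/-! In dimension four a long root element does not correspond to a long root element under a duality. -/

namespace CfsgLib.KnownC.AutPSp

open Projectivization Matrix MulAction CfsgLib.Classical

variable {F : Type*} [Field F]

local notation "Spm" => Matrix.symplecticGroup (Fin 2) F
local notation "PSpm" => Cfsg.PSp 2 F
local notation "𝕄" s => (s : Matrix (Fin 2 ⊕ Fin 2) (Fin 2 ⊕ Fin 2) F)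
local notation "e₀" => (Pi.single (Sum.inl 0) (1 : F) : Vec F 2)
local notation "e₁" => (Pi.single (Sum.inl 1) (1 : F) : Vec F 2)
local notation "f₀" => (Pi.single (Sum.inr 0) (1 : F) : Vec F 2)
local notation "f₁" => (Pi.single (Sum.inr 1) (1 : F) : Vec F 2)

attribute [-simp] Matrix.mulVec_single_one Matrix.mulVec_single

/-- The standard totally isotropic line. -/
def stdLine : Finset (Fin 2 ⊕ Fin 2) := {Sum.inl 0, Sum.inl 1}

theorem stdLine_swap : ∀ i ∈ stdLine, Sum.swap i ∉ stdLine := by decide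

theorem mem_std {x : Vec F 2} : x ∈ coordSub stdLine ↔ x (Sum.inr 0) = 0 ∧ x (Sum.inr 1) = 0 := by
  constructor
  · exact fun h => ⟨h _ (by decide), h _ (by decide)⟩
  · intro h i hi
    rcases i with i | i <;> fin_cases i <;> simp_all [stdLine]

theorem form_formula (u v : Vec F 2) : sympBil F 2 u v =
    u (Sum.inr 0) * v (Sum.inl 0) + u (Sum.inr 1) * v (Sum.inl 1) -
      (u (Sum.inl 0) * v (Sum.inr 0) + u (Sum.inl 1) * v (Sum.inr 1)) := by
  rw [sympBil_apply, Cfsg.sympForm, dotProduct, Fintype.sum_sum_type, Matrix.J, Matrix.fromBlocks_mulVec]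
  simp [Fin.sum_univ_two, Matrix.one_mulVec, Matrix.neg_mulVec]
  ring

theorem span_pair_lagrangian {a b : Vec F 2} (hind : LinearIndependent F ![a, b]) (hab : sympBil F 2 a b = 0) :
    (∀ x ∈ Submodule.span F ({a, b} : Set (Vec F 2)), ∀ y ∈ Submodule.span F ({a, b} : Set (Vec F 2)),
      sympBil F 2 x y = 0) ∧ Module.finrank F (Submodule.span F ({a, b} : Set (Vec F 2))) = 2 := by
  refine ⟨fun x hx y hy => ?_, ?_⟩
  · obtain ⟨p, q, rfl⟩ := Submodule.mem_span_pair.1 hx
    obtain ⟨r, s, rfl⟩ := Submodule.mem_span_pair.1 hy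
    simp [hab, (sympBil_isAlt (F := F) 2).isRefl _ _ hab, (sympBil_isAlt (F := F) 2) a, (sympBil_isAlt (F := F) 2) b]
  · have h := finrank_span_eq_card hind
    rw [Matrix.range_cons, Matrix.range_cons, Matrix.range_empty, Set.union_empty, Set.singleton_union] at h
    simpa using h

theorem indep_of_coords {a b : Vec F 2} (i j : Fin 2 ⊕ Fin 2) (h1 : a i = 1) (h2 : b i = 0) (h3 : b j = 1) :
    LinearIndependent F ![a, b] := by
  rw [LinearIndependent.pair_iff]
  intro s t h
  have hi := congrFun h i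
  simp [h1, h2] at hi
  have hj := congrFun h j
  simp [hi, h3] at hj
  exact ⟨hi, hj⟩

/-- Fixing all Lagrangians in a given relative position. -/
theorem fix_lagrangians (A : Spm) (hE : (coordSub stdLine).map (Matrix.toLin' (𝕄 A)) = coordSub stdLine) (j : ℕ)
    (hj : j = 0 ∨ j = 1)
    (hfix : ∀ L : Submodule F (Vec F 2), (∀ x ∈ L, ∀ y ∈ L, sympBil F 2 x y = 0) → Module.finrank F L = 2 →
      Module.finrank F ↥(coordSub stdLine ⊓ L) = j → L.map (Matrix.toLin' (𝕄 A)) = L) :
    ∃ c y : F, ((2 : F) ≠ 0 → y = 0) ∧ (∀ x ∈ coordSub stdLine, (𝕄 A) *ᵥ x = c • x) ∧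
      (𝕄 A) *ᵥ f₀ = c • f₀ + y • e₁ ∧ (𝕄 A) *ᵥ f₁ = c • f₁ + y • e₀ := by
  have hmem : ∀ {a b : Vec F 2}, LinearIndependent F ![a, b] → sympBil F 2 a b = 0 →
      Module.finrank F ↥(coordSub stdLine ⊓ Submodule.span F ({a, b} : Set (Vec F 2))) = j →
      ∀ x ∈ ({a, b} : Set (Vec F 2)), ∃ r s : F, (𝕄 A) *ᵥ x = r • a + s • b := by
    intro a b hind hab hjj x hx
    have h := hfix _ (span_pair_lagrangian hind hab).1 (span_pair_lagrangian hind hab).2 hjj
    have : (𝕄 A) *ᵥ x ∈ Submodule.span F ({a, b} : Set (Vec F 2)) := h.le ⟨x, Submodule.subset_span hx, rfl⟩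
    obtain ⟨r, s, e⟩ := Submodule.mem_span_pair.1 this
    exact ⟨r, s, e.symm⟩
  have hEe : ∀ x ∈ coordSub (F := F) stdLine, ((𝕄 A) *ᵥ x) (Sum.inr 0) = 0 ∧ ((𝕄 A) *ᵥ x) (Sum.inr 1) = 0 :=
    fun x hx => mem_std.1 (hE.le ⟨x, hx, rfl⟩)
  obtain ⟨he00, he01⟩ := hEe e₀ (mem_std.2 (by simp))
  obtain ⟨he10, he11⟩ := hEe e₁ (mem_std.2 (by simp))
  have hdec : ∀ x ∈ coordSub (F := F) stdLine, x = x (Sum.inl 0) • e₀ + x (Sum.inl 1) • e₁ := by
    intro x hx
    funext i
    obtain ⟨h0, h1⟩ := mem_std.1 hx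
    rcases i with i | i <;> fin_cases i <;> simp [h0, h1]
  have hconcl : ∀ c y : F, (𝕄 A) *ᵥ e₀ = c • e₀ → (𝕄 A) *ᵥ e₁ = c • e₁ →
      ∀ x ∈ coordSub (F := F) stdLine, (𝕄 A) *ᵥ x = c • x := by
    intro c y h0 h1 x hx
    rw [hdec x hx, Matrix.mulVec_add, Matrix.mulVec_smul, Matrix.mulVec_smul, h0, h1]
    module
  rcases hj with rfl | rfl
  · -- the disjoint ones
    have hdis : ∀ s t u : F, Module.finrank F ↥(coordSub stdLine ⊓
        Submodule.span F ({f₀ + s • e₀ + t • e₁, f₁ + t • e₀ + u • e₁} : Set (Vec F 2))) = 0 := by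
      intro s t u
      rw [Submodule.finrank_eq_zero, Submodule.eq_bot_iff]
      rintro x ⟨hx1, hx2⟩
      obtain ⟨p, q, rfl⟩ := Submodule.mem_span_pair.1 hx2
      obtain ⟨h0, h1⟩ := mem_std.1 hx1
      simp at h0 h1
      simp [h0, h1]
    have key : ∀ s t u : F, ∀ x ∈ ({f₀ + s • e₀ + t • e₁, f₁ + t • e₀ + u • e₁} : Set (Vec F 2)),
        ∃ r r' : F, (𝕄 A) *ᵥ x = r • (f₀ + s • e₀ + t • e₁) + r' • (f₁ + t • e₀ + u • e₁) := fun s t u =>
      hmem (indep_of_coords (Sum.inr 0) (Sum.inr 1) (by simp) (by simp) (by simp))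
        (by rw [form_formula]; simp) (hdis s t u)
    obtain ⟨a, b, h0⟩ := key 0 0 0 _ (Or.inl rfl)
    obtain ⟨a', b', h1⟩ := key 0 0 0 _ (Or.inr rfl)
    simp only [zero_smul, add_zero] at h0 h1
    -- the diagonal shape
    obtain ⟨r, r', h2⟩ := key 1 0 0 _ (Or.inr rfl)
    simp only [zero_smul, add_zero, one_smul] at h2
    rw [h1] at h2
    have ha' : a' = 0 := by
      have e1 := congrFun h2 (Sum.inr 0)
      have e2 := congrFun h2 (Sum.inl 0)
      simp at e1 e2
      rw [e1, ← e2]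
    subst ha'
    rw [zero_smul, zero_add] at h1
    obtain ⟨r, r', h3⟩ := key 0 0 1 _ (Or.inl rfl)
    simp only [zero_smul, add_zero, one_smul] at h3
    rw [h0] at h3
    have hb : b = 0 := by
      have e1 := congrFun h3 (Sum.inr 1)
      have e2 := congrFun h3 (Sum.inl 1)
      simp at e1 e2
      rw [e1, ← e2]
    subst hb
    rw [zero_smul, add_zero] at h0
    have p00 := form_mulVec A e₀ f₀
    have p01 := form_mulVec A e₀ f₁
    have p10 := form_mulVec A e₁ f₀
    have p11 := form_mulVec A e₁ f₁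
    rw [h0, form_formula, form_formula] at p00 p10
    rw [h1, form_formula, form_formula] at p01 p11
    simp [he00, he01, he10, he11] at p00 p01 p10 p11
    have ha0 : a ≠ 0 := fun h => by rw [h] at p00; simp at p00
    have hb0 : b' ≠ 0 := fun h => by rw [h] at p11; simp at p11
    have p01' : ((𝕄 A) *ᵥ e₀) (Sum.inl 1) = 0 := by
      rcases p01 with h | h
      · exact h
      · exact absurd h hb0
    have p10' : ((𝕄 A) *ᵥ e₁) (Sum.inl 0) = 0 := by
      rcases p10 with h | h
      · exact h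
      · exact absurd h ha0
    obtain ⟨r, r', h4⟩ := key 1 0 0 _ (Or.inl rfl)
    simp only [zero_smul, add_zero, one_smul] at h4
    rw [Matrix.mulVec_add, h0] at h4
    have q1 := congrFun h4 (Sum.inr 0)
    have q2 := congrFun h4 (Sum.inl 0)
    simp [he00] at q1 q2
    obtain ⟨r, r', h5⟩ := key 0 1 0 _ (Or.inl rfl)
    simp only [zero_smul, add_zero, one_smul] at h5
    rw [Matrix.mulVec_add, h0] at h5
    have q3 := congrFun h5 (Sum.inr 0)
    have q4 := congrFun h5 (Sum.inl 1)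
    simp [he10] at q3 q4
    rw [← q1] at q2
    rw [← q3] at q4
    have hb' : b' = a := by
      have e1 : ((𝕄 A) *ᵥ e₀) (Sum.inl 0) * a = 1 := by simpa using p00
      have e2 : ((𝕄 A) *ᵥ e₁) (Sum.inl 1) * b' = 1 := by simpa using p11
      rw [q2] at e1; rw [q4] at e2
      exact mul_left_cancel₀ ha0 (e2.trans e1.symm)
    refine ⟨a, 0, fun _ => rfl, hconcl a 0 ?_ ?_, by rw [h0, zero_smul, add_zero], by rw [h1, hb', zero_smul, add_zero]⟩
    · funext i; rcases i with i | i <;> fin_cases i <;> simp [he00, he01, p01', q2]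
    · funext i; rcases i with i | i <;> fin_cases i <;> simp [he10, he11, p10', q4]
  · -- those meeting the line
    have hmeet : ∀ (a b : Vec F 2), LinearIndependent F ![a, b] → a ∈ coordSub (F := F) stdLine →
        (b (Sum.inr 0) ≠ 0 ∨ b (Sum.inr 1) ≠ 0) →
        Module.finrank F ↥(coordSub stdLine ⊓ Submodule.span F ({a, b} : Set (Vec F 2))) = 1 := by
      intro a b hind ha hb
      have ha0 : a ≠ 0 := hind.ne_zero 0
      have e : coordSub stdLine ⊓ Submodule.span F ({a, b} : Set (Vec F 2)) = F ∙ a := by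
        refine le_antisymm ?_ ?_
        · rintro x ⟨hx1, hx2⟩
          obtain ⟨p, q, rfl⟩ := Submodule.mem_span_pair.1 hx2
          obtain ⟨h0, h1⟩ := mem_std.1 hx1
          obtain ⟨a0, a1⟩ := mem_std.1 ha
          simp [a0, a1] at h0 h1
          have hq : q = 0 := by
            rcases hb with hb | hb
            · exact h0.resolve_right hb
            · exact h1.resolve_right hb
          rw [hq, zero_smul, add_zero]
          exact Submodule.smul_mem _ _ (Submodule.mem_span_singleton_self a)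
        · rw [Submodule.span_singleton_le_iff_mem]
          exact ⟨ha, Submodule.subset_span (Or.inl rfl)⟩
      rw [e, finrank_span_singleton ha0]
    have heig : ∀ (a b : Vec F 2), LinearIndependent F ![a, b] → a ∈ coordSub (F := F) stdLine →
        (b (Sum.inr 0) ≠ 0 ∨ b (Sum.inr 1) ≠ 0) → sympBil F 2 a b = 0 → ∃ r : F, (𝕄 A) *ᵥ a = r • a := by
      intro a b hind ha hb hab
      obtain ⟨r, s, e⟩ := hmem hind hab (hmeet a b hind ha hb) a (Or.inl rfl)
      obtain ⟨a0, a1⟩ := mem_std.1 ha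
      obtain ⟨z0, z1⟩ := hEe a ha
      rw [e] at z0 z1
      simp [a0, a1] at z0 z1
      have hs : s = 0 := by
        rcases hb with hb | hb
        · exact z0.resolve_right hb
        · exact z1.resolve_right hb
      exact ⟨r, by rw [e, hs, zero_smul, add_zero]⟩
    obtain ⟨c1, hc1⟩ := heig e₁ f₀ (indep_of_coords (Sum.inl 1) (Sum.inr 0) (by simp) (by simp) (by simp))
      (mem_std.2 (by simp)) (Or.inl (by simp)) (by rw [form_formula]; simp)
    obtain ⟨c0, hc0⟩ := heig e₀ f₁ (indep_of_coords (Sum.inl 0) (Sum.inr 1) (by simp) (by simp) (by simp))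
      (mem_std.2 (by simp)) (Or.inr (by simp)) (by rw [form_formula]; simp)
    obtain ⟨c2, hc2⟩ := heig (e₀ - e₁) (f₀ + f₁)
      (indep_of_coords (Sum.inl 0) (Sum.inr 0) (by simp) (by simp) (by simp))
      (mem_std.2 (by simp)) (Or.inl (by simp)) (by rw [form_formula]; simp)
    have hc01 : c1 = c0 := by
      rw [Matrix.mulVec_sub, hc0, hc1] at hc2
      have e1 := congrFun hc2 (Sum.inl 0)
      have e2 := congrFun hc2 (Sum.inl 1)
      simp at e1 e2
      rw [e1, e2]
    subst hc01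
    obtain ⟨y, x, hf0⟩ := hmem (a := e₁) (b := f₀)
      (indep_of_coords (Sum.inl 1) (Sum.inr 0) (by simp) (by simp) (by simp)) (by rw [form_formula]; simp)
      (hmeet _ _ (indep_of_coords (Sum.inl 1) (Sum.inr 0) (by simp) (by simp) (by simp)) (mem_std.2 (by simp))
        (Or.inl (by simp))) f₀ (Or.inr rfl)
    obtain ⟨y', x', hf1⟩ := hmem (a := e₀) (b := f₁)
      (indep_of_coords (Sum.inl 0) (Sum.inr 1) (by simp) (by simp) (by simp)) (by rw [form_formula]; simp)
      (hmeet _ _ (indep_of_coords (Sum.inl 0) (Sum.inr 1) (by simp) (by simp) (by simp)) (mem_std.2 (by simp))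
        (Or.inr (by simp))) f₁ (Or.inr rfl)
    obtain ⟨z, w, hg⟩ := hmem (a := e₁) (b := f₀ + e₀)
      (indep_of_coords (Sum.inl 1) (Sum.inr 0) (by simp) (by simp) (by simp)) (by rw [form_formula]; simp)
      (hmeet _ _ (indep_of_coords (Sum.inl 1) (Sum.inr 0) (by simp) (by simp) (by simp)) (mem_std.2 (by simp))
        (Or.inl (by simp))) (f₀ + e₀) (Or.inr rfl)
    rw [Matrix.mulVec_add, hf0, hc0] at hg
    have g1 := congrFun hg (Sum.inr 0)
    have g2 := congrFun hg (Sum.inl 0)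
    simp at g1 g2
    have hx : x = c1 := by rw [g1, ← g2]
    subst hx
    have pp := form_mulVec A e₁ f₁
    rw [hc1, hf1, form_formula, form_formula] at pp
    simp at pp
    have pp0 := form_mulVec A e₀ f₀
    rw [hc0, hf0, form_formula, form_formula] at pp0
    simp at pp0
    have hx0 : x ≠ 0 := fun h => by simp [h] at pp0
    have hx' : x' = x := mul_left_cancel₀ hx0 (pp.trans pp0.symm)
    subst hx'
    have pff := form_mulVec A f₀ f₁
    rw [hf0, hf1, form_formula, form_formula] at pff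
    simp at pff
    have hyy : y' = y := by
      have : x' * y' = y * x' := sub_eq_zero.1 (by linear_combination pff)
      exact mul_left_cancel₀ hx0 (by linear_combination this)
    subst hyy
    refine ⟨x', y', fun h2 => ?_, hconcl x' y' hc0 hc1, by rw [hf0, add_comm], by rw [hf1, add_comm]⟩
    obtain ⟨r, s, hh⟩ := hmem (a := e₀ - e₁) (b := f₀ + f₁)
      (indep_of_coords (Sum.inl 0) (Sum.inr 0) (by simp) (by simp) (by simp)) (by rw [form_formula]; simp)
      (hmeet _ _ (indep_of_coords (Sum.inl 0) (Sum.inr 0) (by simp) (by simp) (by simp)) (mem_std.2 (by simp))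
        (Or.inl (by simp))) (f₀ + f₁) (Or.inr rfl)
    rw [Matrix.mulVec_add, hf0, hf1] at hh
    have k1 := congrFun hh (Sum.inl 0)
    have k2 := congrFun hh (Sum.inl 1)
    simp at k1 k2
    have : (2 : F) * y' = 0 := by linear_combination k1 + k2
    exact (mul_eq_zero.1 this).resolve_left h2

variable [Finite F]

/-- A lift of the image of a long root element fixes all Lagrangians in one relative position. -/
theorem long_root_image (α : MulAut PSpm) (P0 : Pt F 2)
    (hα : (stabilizer PSpm P0).map α.toMonoidHom = stabSub (coordSub stdLine)) :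
    ∃ (A : Spm) (c y : F), α (QuotientGroup.mk (spT P0.rep 1)) = QuotientGroup.mk A ∧ ((2 : F) ≠ 0 → y = 0) ∧
      (∀ x ∈ coordSub stdLine, (𝕄 A) *ᵥ x = c • x) ∧
      (𝕄 A) *ᵥ f₀ = c • f₀ + y • e₁ ∧ (𝕄 A) *ᵥ f₁ = c • f₁ + y • e₀ := by
  classical
  set E : Submodule F (Vec F 2) := coordSub stdLine
  have hEd : Module.finrank F E = 2 := by rw [finrank_coordSub]; rfl
  have hEi : ∀ a ∈ E, ∀ b ∈ E, sympBil F 2 a b = 0 := coordSub_isotropic stdLine_swap
  obtain ⟨A, hA⟩ := QuotientGroup.mk_surjective (α (QuotientGroup.mk (spT P0.rep 1)))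
  have htP : (QuotientGroup.mk (spT P0.rep 1) : PSpm) • P0 = P0 := by
    have h := psp_smul_mk (spT P0.rep 1) (rep_nonzero P0)
    rw [mk_rep] at h
    rw [h]
    conv_rhs => rw [← mk_rep P0]
    exact mk_congr _ _ 1 (by rw [one_smul, spT_mulVec, (sympBil_isAlt 2) P0.rep, mul_zero, zero_smul, add_zero])
  have hAE : E.map (Matrix.toLin' (𝕄 A)) = E := by
    rw [← mk_mem_stabSub_iff, hA]; exact (lift_stab hα _).1 htP
  let cls : Spm → Prop := fun s => sympBil F 2 P0.rep (α.symm (QuotientGroup.mk s) • P0).rep = 0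
  have hfixP : ∀ s : Spm, cls s → E.map (Matrix.toLin' (𝕄 s)) = E ∨
      (E.map (Matrix.toLin' (𝕄 s))).map (Matrix.toLin' (𝕄 A)) = E.map (Matrix.toLin' (𝕄 s)) := by
    intro s hs
    right
    set P := α.symm (QuotientGroup.mk s) • P0
    have ht : (QuotientGroup.mk (spT P0.rep 1) : PSpm) • P = P := by
      conv_lhs => rw [← mk_rep P, psp_smul_mk]
      conv_rhs => rw [← mk_rep P]
      refine mk_congr _ _ 1 ?_
      rw [one_smul, spT_mulVec, (sympBil_isAlt (F := F) 2).isRefl _ _ hs, mul_zero, zero_smul, add_zero]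
    have h3 : ((α.symm (QuotientGroup.mk s))⁻¹ * QuotientGroup.mk (spT P0.rep 1) * α.symm (QuotientGroup.mk s)) • P0 = P0 := by
      rw [mul_smul, mul_smul, ht, inv_smul_smul]
    rw [lift_stab hα, map_mul, map_mul, map_inv, α.apply_symm_apply, ← hA] at h3
    change (QuotientGroup.mk (s⁻¹ * A * s) : PSpm) ∈ stabSub E at h3
    rw [mk_mem_stabSub_iff] at h3
    conv_rhs => rw [← h3]
    rw [← Submodule.map_comp, ← Submodule.map_comp, ← Matrix.toLin'_mul, ← Matrix.toLin'_mul]
    congr 2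
    show _ = 𝕄 (s * (s⁻¹ * A * s) : Spm)
    rw [← mul_assoc, mul_inv_cancel_left]; rfl
  have hex : ∀ L : Submodule F (Vec F 2), (∀ x ∈ L, ∀ y ∈ L, sympBil F 2 x y = 0) → Module.finrank F L = 2 →
      ∃ s : Spm, E.map (Matrix.toLin' (𝕄 s)) = L := fun L hL hd => exists_map_isotropic E L hEi hL (hEd.trans hd.symm)
  obtain ⟨s1, hs1⟩ := hex (coordSub {Sum.inl 0, Sum.inr 1}) (coordSub_isotropic (by decide))
    (by rw [finrank_coordSub]; rfl)
  obtain ⟨s0, hs0⟩ := hex (coordSub {Sum.inr 0, Sum.inr 1}) (coordSub_isotropic (by decide))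
    (by rw [finrank_coordSub]; rfl)
  have hd1 : Module.finrank F ↥(E ⊓ E.map (Matrix.toLin' (𝕄 s1))) = 1 := by
    rw [hs1, coordSub_inf, finrank_coordSub]; rfl
  have hd0 : Module.finrank F ↥(E ⊓ E.map (Matrix.toLin' (𝕄 s0))) = 0 := by
    rw [hs0, coordSub_inf, finrank_coordSub]; rfl
  have hne : ∀ s : Spm, Module.finrank F ↥(E ⊓ E.map (Matrix.toLin' (𝕄 s))) ≠ 2 → E.map (Matrix.toLin' (𝕄 s)) ≠ E :=
    fun s h e => h (by rw [e, inf_idem, hEd])
  have hsame : ∀ s t : Spm, E.map (Matrix.toLin' (𝕄 s)) ≠ E → E.map (Matrix.toLin' (𝕄 t)) ≠ E → (cls s ↔ cls t) →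
      Module.finrank F ↥(E ⊓ E.map (Matrix.toLin' (𝕄 s))) = Module.finrank F ↥(E ⊓ E.map (Matrix.toLin' (𝕄 t))) :=
    fun s t hs ht h => congrArg Prod.fst (same_class hα s t hs ht h)
  have hdiff : ¬ (cls s0 ↔ cls s1) := fun h => by
    have := hsame s0 s1 (hne _ (by rw [hd0]; omega)) (hne _ (by rw [hd1]; omega)) h
    omega
  obtain ⟨j, hj, hjc⟩ : ∃ j, (j = 0 ∨ j = 1) ∧ ∀ s : Spm,
      Module.finrank F ↥(E ⊓ E.map (Matrix.toLin' (𝕄 s))) = j → cls s := by
    by_cases h0 : cls s0
    · refine ⟨0, Or.inl rfl, fun s hs => ?_⟩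
      by_contra hc
      have h1 : ¬ cls s1 := fun h => hdiff ⟨fun _ => h, fun _ => h0⟩
      have := hsame s s1 (hne _ (by omega)) (hne _ (by omega)) (iff_of_false hc h1)
      omega
    · refine ⟨1, Or.inr rfl, fun s hs => ?_⟩
      by_contra hc
      have := hsame s s0 (hne _ (by omega)) (hne _ (by omega)) (iff_of_false hc h0)
      omega
  obtain ⟨c, y, h1, h2, h3, h4⟩ := fix_lagrangians A hAE j hj fun L hL hd hLj => by
    obtain ⟨s, rfl⟩ := hex L hL hd
    rcases hfixP s (hjc s hLj) with h | h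
    · exact absurd h (hne s (fun h2 => by have := h2.symm.trans hLj; omega))
    · exact h
  exact ⟨A, c, y, hA.symm, h1, h2, h3, h4⟩

/-- In odd characteristic no automorphism maps a point stabiliser to a line stabiliser. -/
theorem no_duality (h2 : (2 : F) ≠ 0) (α : MulAut PSpm) (P0 : Pt F 2)
    (hα : (stabilizer PSpm P0).map α.toMonoidHom = stabSub (coordSub stdLine)) : False := by
  obtain ⟨A, c, y, hA, hy, hE, hf0, hf1⟩ := long_root_image α P0 hα
  rw [hy h2, zero_smul, add_zero] at hf0 hf1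
  have hall : ∀ v, (𝕄 A) *ᵥ v = c • v := by
    intro v
    have e : v = (v (Sum.inl 0) • e₀ + v (Sum.inl 1) • e₁) + v (Sum.inr 0) • f₀ + v (Sum.inr 1) • f₁ := by
      funext i; rcases i with i | i <;> fin_cases i <;> simp
    have h' := hE _ (show v (Sum.inl 0) • e₀ + v (Sum.inl 1) • e₁ ∈ coordSub stdLine from mem_std.2 (by simp))
    conv_lhs => rw [e]
    rw [Matrix.mulVec_add, Matrix.mulVec_add, h', Matrix.mulVec_smul, Matrix.mulVec_smul, hf0, hf1]
    conv_rhs => rw [e]
    module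
  have : (QuotientGroup.mk (spT P0.rep 1) : PSpm) = 1 := α.injective (by
    rw [hA, map_one, QuotientGroup.eq_one_iff]
    exact scalar_mem_center c hall)
  rw [QuotientGroup.eq_one_iff] at this
  exact spT_ne_center (rep_nonzero P0) one_ne_zero this

end CfsgLib.KnownC.AutPSp
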