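import Cfsg.Agent.Lib.KnownC.AutPSp.Four

set_option autoImplicit false
set_option linter.unusedSectionVars false

/-! Automorphisms of `PSp_{2m}` induced by semilinear similitudes. -/

namespace CfsgLib.KnownC.AutPSp

open Projectivization Matrix MulAction CfsgLib.Classical

variable {F : Type*} [Field F] {m : ℕ}

local notation "Spm" => Matrix.symplecticGroup (Fin m) F
local notation "PSpm" => Cfsg.PSp m F
local notation "GSpm" => Cfsg.GSp m F
local notation "𝕄" s => (s : Matrix (Fin m ⊕ Fin m) (Fin m ⊕ Fin m) F)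

/-- The matrix of a similitude. -/
abbrev gmat (A : GSpm) : Matrix (Fin m ⊕ Fin m) (Fin m ⊕ Fin m) F :=
  ((A : GL (Fin m ⊕ Fin m) F) : Matrix (Fin m ⊕ Fin m) (Fin m ⊕ Fin m) F)

theorem gmat_mul (A B : GSpm) : gmat (A * B) = gmat A * gmat B := rfl

theorem gmat_inv_mul (A : GSpm) : gmat A⁻¹ * gmat A = 1 := by
  rw [← gmat_mul, inv_mul_cancel]; rfl

theorem gmat_mul_inv (A : GSpm) : gmat A * gmat A⁻¹ = 1 := by
  rw [← gmat_mul, mul_inv_cancel]; rfl

theorem gmat_ne_zero (A : GSpm) {v : Vec F m} (hv : v ≠ 0) : gmat A *ᵥ v ≠ 0 := fun h => hv (by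
  have := congrArg (fun x => gmat A⁻¹ *ᵥ x) h
  simpa [Matrix.mulVec_mulVec, gmat_inv_mul] using this)

theorem map_J (σ : F ≃+* F) : (Matrix.J (Fin m) F).map σ = Matrix.J (Fin m) F := by
  ext i j
  rcases i with i | i <;> rcases j with j | j <;> simp [Matrix.J, Matrix.one_apply, apply_ite σ]

/-- The semilinear bilinear identity. -/
theorem form_map (σ : F ≃+* F) (u v : Vec F m) :
    sympBil F m (fun i => σ (u i)) (fun i => σ (v i)) = σ (sympBil F m u v) := by
  rw [sympBil_apply, sympBil_apply, sympForm_eq, sympForm_eq, map_sum]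
  exact Finset.sum_congr rfl fun i _ => by rw [map_sub, map_mul, map_mul]

theorem map_mem (σ : F ≃+* F) (s : Spm) : (𝕄 s).map σ ∈ Matrix.symplecticGroup (Fin m) F := by
  have h := congrArg (fun M : Matrix (Fin m ⊕ Fin m) (Fin m ⊕ Fin m) F => M.map σ) (SymplecticGroup.mem_iff.1 s.2)
  simp only [Matrix.map_mul, Matrix.transpose_map, map_J] at h
  exact SymplecticGroup.mem_iff.2 h

theorem conj_mem (A : GSpm) (s : Spm) : gmat A * (𝕄 s) * gmat A⁻¹ ∈ Matrix.symplecticGroup (Fin m) F := by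
  rw [mem_symplecticGroup_iff_preserves]
  intro u v
  obtain ⟨c, hc⟩ := A.2
  have hu : u = gmat A *ᵥ (gmat A⁻¹ *ᵥ u) := by rw [Matrix.mulVec_mulVec, gmat_mul_inv, Matrix.one_mulVec]
  have hv : v = gmat A *ᵥ (gmat A⁻¹ *ᵥ v) := by rw [Matrix.mulVec_mulVec, gmat_mul_inv, Matrix.one_mulVec]
  rw [← Matrix.mulVec_mulVec, ← Matrix.mulVec_mulVec, ← Matrix.mulVec_mulVec, ← Matrix.mulVec_mulVec]
  conv_rhs => rw [hu, hv]
  rw [hc, hc, (mem_symplecticGroup_iff_preserves m).1 s.2]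

/-- A field automorphism applied to a similitude. -/
def gMap (σ : F ≃+* F) : GSpm →* GSpm where
  toFun A := ⟨Matrix.GeneralLinearGroup.map σ.toRingHom (A : GL (Fin m ⊕ Fin m) F), by
    obtain ⟨c, hc⟩ := A.2
    refine ⟨Units.map σ.toRingHom.toMonoidHom c, fun u v => ?_⟩
    have e : ∀ w : Vec F m, ((gmat A).map σ) *ᵥ w = fun i => σ ((gmat A *ᵥ fun j => σ.symm (w j)) i) := fun w => funext fun i => by
      have h := RingHom.map_mulVec σ.toRingHom (gmat A) (fun j => σ.symm (w j)) i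
      rw [show σ.toRingHom ∘ (fun j => σ.symm (w j)) = w from funext fun j => σ.apply_symm_apply _] at h
      exact h.symm
    show Cfsg.sympForm m F (((gmat A).map σ) *ᵥ u) (((gmat A).map σ) *ᵥ v) = σ (c : F) * Cfsg.sympForm m F u v
    rw [e, e, ← sympBil_apply, form_map, sympBil_apply, hc, map_mul, ← sympBil_apply, ← form_map, sympBil_apply]
    simp⟩
  map_one' := Subtype.ext (map_one _)
  map_mul' A B := Subtype.ext (map_mul _ _ _)

theorem gMap_coe (σ : F ≃+* F) (A : GSpm) : gmat (gMap σ A) = (gmat A).map σ := rfl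

/-- `s ↦ A σ(s) A⁻¹`. -/
def semiHom (A : GSpm) (σ : F ≃+* F) : Spm →* Spm where
  toFun s := ⟨gmat A * (𝕄 s).map σ * gmat A⁻¹, conj_mem A ⟨_, map_mem σ s⟩⟩
  map_one' := Subtype.ext (by
    show gmat A * (1 : Matrix (Fin m ⊕ Fin m) (Fin m ⊕ Fin m) F).map σ * gmat A⁻¹ = 1
    rw [Matrix.map_one _ (map_zero σ) (map_one σ), Matrix.mul_one, gmat_mul_inv])
  map_mul' s t := Subtype.ext (by
    show gmat A * ((𝕄 s) * (𝕄 t)).map σ * gmat A⁻¹ =
      (gmat A * (𝕄 s).map σ * gmat A⁻¹) * (gmat A * (𝕄 t).map σ * gmat A⁻¹)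
    rw [Matrix.map_mul]
    simp only [Matrix.mul_assoc]
    rw [← Matrix.mul_assoc (gmat A⁻¹) (gmat A), gmat_inv_mul, Matrix.one_mul])

theorem semiHom_comp (A B : GSpm) (σ τ : F ≃+* F) (s : Spm) :
    semiHom A σ (semiHom B τ s) = semiHom (A * gMap σ B) (σ * τ) s := by
  refine Subtype.ext ?_
  show gmat A * (gmat B * (𝕄 s).map τ * gmat B⁻¹).map σ * gmat A⁻¹ =
    gmat (A * gMap σ B) * (𝕄 s).map (σ * τ) * gmat (A * gMap σ B)⁻¹
  rw [_root_.mul_inv_rev, gmat_mul, gmat_mul, ← map_inv, gMap_coe, gMap_coe, Matrix.map_mul, Matrix.map_mul, Matrix.map_map]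
  simp only [Matrix.mul_assoc]
  rfl

theorem semiHom_one (s : Spm) : semiHom (1 : GSpm) 1 s = s := by
  refine Subtype.ext ?_
  show gmat (1 : GSpm) * (𝕄 s).map (1 : F ≃+* F) * gmat (1 : GSpm)⁻¹ = _
  rw [inv_one, show gmat (1 : GSpm) = 1 from rfl, Matrix.one_mul, Matrix.mul_one]
  rfl

theorem semiHom_left_inv (A : GSpm) (σ : F ≃+* F) (s : Spm) :
    semiHom (gMap σ⁻¹ A⁻¹) σ⁻¹ (semiHom A σ s) = s := by
  rw [semiHom_comp, ← map_mul, inv_mul_cancel, map_one, inv_mul_cancel, semiHom_one]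

theorem semiHom_right_inv (A : GSpm) (σ : F ≃+* F) (s : Spm) :
    semiHom A σ (semiHom (gMap σ⁻¹ A⁻¹) σ⁻¹ s) = s := by
  rw [semiHom_comp]
  have e : gMap σ (gMap σ⁻¹ A⁻¹) = A⁻¹ := Subtype.ext (Units.ext (by
    show ((gmat A⁻¹).map (σ⁻¹ : F ≃+* F)).map σ = gmat A⁻¹
    ext i j
    exact σ.apply_symm_apply _))
  rw [e, mul_inv_cancel, mul_inv_cancel, semiHom_one]

/-- The automorphism of the symplectic group. -/
def semiSp (A : GSpm) (σ : F ≃+* F) : Spm ≃* Spm :=
  { semiHom A σ with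
    invFun := semiHom (gMap σ⁻¹ A⁻¹) σ⁻¹
    left_inv := semiHom_left_inv A σ
    right_inv := semiHom_right_inv A σ }

theorem center_map (e : Spm ≃* Spm) : (Subgroup.center Spm).map e.toMonoidHom = Subgroup.center Spm := by
  ext x
  constructor
  · rintro ⟨y, hy, rfl⟩
    refine Subgroup.mem_center_iff.2 fun z => ?_
    apply e.symm.injective
    rw [map_mul, map_mul, MulEquiv.coe_toMonoidHom, e.symm_apply_apply]
    exact Subgroup.mem_center_iff.1 hy _
  · intro hx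
    refine ⟨e.symm x, Subgroup.mem_center_iff.2 fun z => ?_, e.apply_symm_apply x⟩
    apply e.injective
    rw [map_mul, map_mul, e.apply_symm_apply]
    exact Subgroup.mem_center_iff.1 hx _

/-- The induced automorphism of the quotient. -/
def semiAut (A : GSpm) (σ : F ≃+* F) : MulAut PSpm := QuotientGroup.congr _ _ (semiSp A σ) (center_map _)

theorem semiAut_mk (A : GSpm) (σ : F ≃+* F) (s : Spm) :
    semiAut A σ (QuotientGroup.mk s) = QuotientGroup.mk (semiHom A σ s) := rfl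

theorem semiAut_mul (A B : GSpm) (σ τ : F ≃+* F) :
    semiAut A σ * semiAut B τ = semiAut (A * gMap σ B) (σ * τ) := by
  refine MulEquiv.ext fun x => ?_
  induction x using QuotientGroup.induction_on with
  | _ s =>
    show semiAut A σ (semiAut B τ (QuotientGroup.mk s)) = _
    rw [semiAut_mk, semiAut_mk, semiAut_mk, semiHom_comp]

theorem semiAut_one : semiAut (1 : GSpm) 1 = 1 := by
  refine MulEquiv.ext fun x => ?_
  induction x using QuotientGroup.induction_on with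
  | _ s => rw [semiAut_mk, semiHom_one]; rfl

theorem semiAut_inv (A : GSpm) (σ : F ≃+* F) : (semiAut A σ)⁻¹ = semiAut (gMap σ⁻¹ A⁻¹) σ⁻¹ := by
  refine inv_eq_of_mul_eq_one_left ?_
  rw [semiAut_mul, ← map_mul, inv_mul_cancel, map_one, inv_mul_cancel, semiAut_one]

theorem gMap_one (A : GSpm) : gMap 1 A = A := Subtype.ext (Units.ext (Matrix.ext fun _ _ => rfl))

theorem induced_iff (A : GSpm) (σ : F ≃+* F) (β : MulAut PSpm) :
    Cfsg.IsInducedBySemilinearPSp (A : GL (Fin m ⊕ Fin m) F) σ β ↔ β = semiAut A σ := by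
  constructor
  · intro h
    refine MulEquiv.ext fun x => ?_
    induction x using QuotientGroup.induction_on with
    | _ s => exact h s (semiHom A σ s) rfl
  · rintro rfl s s' e
    rw [semiAut_mk]
    exact congrArg _ (Subtype.ext e.symm)

theorem innDiag_iff (β : MulAut PSpm) : Cfsg.IsInnerDiagonalAutPSp β ↔ ∃ A : GSpm, β = semiAut A 1 := by
  constructor
  · rintro ⟨g, hg, h⟩
    exact ⟨⟨g, hg⟩, (induced_iff ⟨g, hg⟩ _ β).1 h⟩
  · rintro ⟨A, rfl⟩
    exact ⟨A, A.2, (induced_iff A 1 _).2 rfl⟩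

theorem stdField_iff (σ : F ≃+* F) (β : MulAut PSpm) : Cfsg.IsStdFieldAutPSp σ β ↔ β = semiAut 1 σ := by
  have e : ∀ s : Spm, (𝕄 (semiHom (1 : GSpm) σ s)) = (𝕄 s).map σ := fun s => by
    show gmat (1 : GSpm) * (𝕄 s).map σ * gmat (1 : GSpm)⁻¹ = _
    rw [inv_one, show gmat (1 : GSpm) = 1 from rfl, Matrix.one_mul, Matrix.mul_one]
  constructor
  · intro h
    refine MulEquiv.ext fun x => ?_
    induction x using QuotientGroup.induction_on with
    | _ s => exact h s (semiHom 1 σ s) (e s)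
  · rintro rfl s s' e'
    rw [semiAut_mk]
    exact congrArg _ (Subtype.ext ((e s).trans e'.symm))

theorem inndiag_iff_mem (β : MulAut PSpm) : β ∈ Cfsg.inndiagPSp m F ↔ ∃ A : GSpm, β = semiAut A 1 := by
  refine ⟨fun h => ?_, fun ⟨A, e⟩ => Subgroup.subset_closure ((innDiag_iff β).2 ⟨A, e⟩)⟩
  induction h using Subgroup.closure_induction with
  | mem x hx => exact (innDiag_iff x).1 hx
  | one => exact ⟨1, semiAut_one.symm⟩
  | mul x y _ _ hx hy =>
    obtain ⟨A, rfl⟩ := hx; obtain ⟨B, rfl⟩ := hy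
    exact ⟨A * B, by rw [semiAut_mul, gMap_one, one_mul]⟩
  | inv x _ hx =>
    obtain ⟨A, rfl⟩ := hx
    exact ⟨A⁻¹, by rw [semiAut_inv, inv_one, gMap_one]⟩

theorem semi_mem_gamma (A : GSpm) (σ : F ≃+* F) : semiAut A σ ∈ Cfsg.gammaPSp m F :=
  Subgroup.subset_closure ⟨A, σ, A.2, (induced_iff A σ _).2 rfl⟩

/-- The semilinear map of the space. -/
def semiVec (A : GSpm) (σ : F ≃+* F) (v : Vec F m) : Vec F m := gmat A *ᵥ fun i => σ (v i)

theorem semiVec_ne_zero (A : GSpm) (σ : F ≃+* F) {v : Vec F m} (hv : v ≠ 0) : semiVec A σ v ≠ 0 :=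
  gmat_ne_zero A fun h => hv (funext fun i => σ.injective (by simpa using congrFun h i))

theorem semiHom_mulVec (A : GSpm) (σ : F ≃+* F) (s : Spm) (v : Vec F m) :
    (𝕄 (semiHom A σ s)) *ᵥ semiVec A σ v = semiVec A σ ((𝕄 s) *ᵥ v) := by
  show (gmat A * (𝕄 s).map σ * gmat A⁻¹) *ᵥ (gmat A *ᵥ fun i => σ (v i)) = gmat A *ᵥ fun i => σ (((𝕄 s) *ᵥ v) i)
  rw [Matrix.mulVec_mulVec, Matrix.mul_assoc (gmat A * _), gmat_inv_mul, Matrix.mul_one, ← Matrix.mulVec_mulVec]
  congr 1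
  funext i
  exact (RingHom.map_mulVec σ.toRingHom (𝕄 s) v i).symm

theorem exists_psp_move {v w : Vec F m} (hv : v ≠ 0) (hw : ∀ c : F, w ≠ c • v) :
    ∃ s : Spm, (𝕄 s) *ᵥ v = v ∧ ∀ c : F, (𝕄 s) *ᵥ w ≠ c • w := by
  have hmem : w ∉ Submodule.span F {v} := fun h => by
    obtain ⟨c, hc⟩ := Submodule.mem_span_singleton.1 h
    exact hw c hc.symm
  obtain ⟨u, hu, hwu⟩ := exists_perp_not_orth (sympBil_nondegenerate (F := F) m).2 hmem
  have hvu : sympBil F m v u = 0 := mem_perp.1 hu v (Submodule.mem_span_singleton_self v)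
  refine ⟨spT u 1, by rw [spT_mulVec, hvu, mul_zero, zero_smul, add_zero], fun c hc => hwu ?_⟩
  rw [spT_mulVec, one_mul] at hc
  rcases eq_or_ne c 1 with rfl | hc1
  · rw [one_smul, add_eq_left, smul_eq_zero] at hc
    rcases hc with h | h
    · exact h
    · rw [h, map_zero]
  · have : w = ((c - 1)⁻¹ * sympBil F m w u) • u := by
      rw [← smul_smul, eq_inv_smul_iff₀ (sub_ne_zero.2 hc1), sub_smul, one_smul, ← hc, add_sub_cancel_left]
    conv_lhs => rw [this]
    rw [map_smul, LinearMap.smul_apply, (sympBil_isAlt m) u, smul_zero]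

theorem semi_eq_one (hm : 1 ≤ m) {A : GSpm} {σ : F ≃+* F} (h : semiAut A σ = 1) :
    σ = 1 ∧ ∃ c : Fˣ, gmat A = (c : F) • (1 : Matrix (Fin m ⊕ Fin m) (Fin m ⊕ Fin m) F) := by
  have heig : ∀ v, v ≠ 0 → ∃ c : F, semiVec A σ v = c • v := by
    intro v hv
    by_contra hcon
    push Not at hcon
    obtain ⟨s, hs1, hs2⟩ := exists_psp_move hv hcon
    have h1 := congrArg (fun β : MulAut PSpm => β (QuotientGroup.mk s)) h
    simp only [MulAut.one_apply, semiAut_mk] at h1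
    have h2 := congrArg (fun x : PSpm => x • Projectivization.mk F (semiVec A σ v) (semiVec_ne_zero A σ hv)) h1
    simp only [psp_smul_mk] at h2
    obtain ⟨c, hc⟩ := (mk_eq_mk_iff' F _ _ _ _).1 h2
    rw [semiHom_mulVec, hs1] at hc
    rcases eq_or_ne c 0 with rfl | hc0
    · rw [zero_smul] at hc; exact semiVec_ne_zero A σ hv hc.symm
    · exact hs2 c⁻¹ (by rw [eq_inv_smul_iff₀ hc0]; exact hc)
  have hadd : ∀ v w, semiVec A σ (v + w) = semiVec A σ v + semiVec A σ w := fun v w => by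
    rw [semiVec, semiVec, semiVec, ← Matrix.mulVec_add]; congr 1; funext i; exact map_add σ _ _
  have hsm : ∀ (a : F) v, semiVec A σ (a • v) = σ a • semiVec A σ v := fun a v => by
    rw [semiVec, semiVec, ← Matrix.mulVec_smul]; congr 1; funext i; exact map_mul σ _ _
  choose c hc using fun i : Fin m ⊕ Fin m => heig (Pi.single i 1) (by simp)
  have hpair : ∀ i j, i ≠ j → ∀ a : F, σ a * c j = c i * a := by
    intro i j hij a
    obtain ⟨d, hd⟩ := heig (Pi.single i 1 + a • Pi.single j 1) (fun h0 => by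
      have := congrFun h0 i
      simp [hij] at this)
    rw [hadd, hsm, hc, hc] at hd
    have hi := congrFun hd i
    have hj := congrFun hd j
    simp [hij, Ne.symm hij] at hi hj
    rw [hi]; linear_combination hj
  have hc0 : ∀ i, c i = c (Sum.inl ⟨0, hm⟩) := fun i => by
    rcases eq_or_ne i (Sum.inl ⟨0, hm⟩) with rfl | hi
    · rfl
    · have := hpair i (Sum.inl ⟨0, hm⟩) hi 1
      simpa using this.symm
  have hne : c (Sum.inl ⟨0, hm⟩) ≠ 0 := fun h0 => semiVec_ne_zero A σ (v := Pi.single (Sum.inl ⟨0, hm⟩) 1) (by simp)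
    (by rw [hc, h0, zero_smul])
  have hσ : σ = 1 := RingEquiv.ext fun a => by
    have := hpair (Sum.inl ⟨0, hm⟩) (Sum.inr ⟨0, hm⟩) (by simp) a
    rw [hc0 (Sum.inr _), mul_comm (c _) a] at this
    exact mul_right_cancel₀ hne this
  refine ⟨hσ, Units.mk0 _ hne, Matrix.ext_of_mulVec_single fun j => ?_⟩
  have := hc j
  rw [semiVec, hσ] at this
  rw [Units.val_mk0, Matrix.smul_mulVec, Matrix.one_mulVec, ← hc0 j, ← this]
  rfl

end CfsgLib.KnownC.AutPSp
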