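import Cfsg.Agent.Lib.KnownC.AutPSp.Induced
import Cfsg.Agent.Lib.KnownC.AutPSL.Semilinear

set_option autoImplicit false
set_option linter.unusedSectionVars false

/-! The automorphisms of `PSp_{2m}`. -/

namespace CfsgLib.KnownC.AutPSp

open Projectivization Matrix MulAction CfsgLib.Classical

variable {F : Type*} [Field F] {m : ℕ}

local notation "Spm" => Matrix.symplecticGroup (Fin m) F
local notation "PSpm" => Cfsg.PSp m F
local notation "GSpm" => Cfsg.GSp m F
local notation "𝕄" s => (s : Matrix (Fin m ⊕ Fin m) (Fin m ⊕ Fin m) F)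

/-- Perpendicularity of points. -/
def Orth (P Q : Pt F m) : Prop := sympBil F m P.rep Q.rep = 0

theorem orth_mk {v w : Vec F m} (hv : v ≠ 0) (hw : w ≠ 0) :
    Orth (Projectivization.mk F v hv) (Projectivization.mk F w hw) ↔ sympBil F m v w = 0 := by
  obtain ⟨a, ha⟩ := exists_smul_eq_mk_rep F v hv
  obtain ⟨b, hb⟩ := exists_smul_eq_mk_rep F w hw
  rw [Orth, ← ha, ← hb, Units.smul_def, Units.smul_def]
  simp [a.ne_zero, b.ne_zero]

theorem orth_smul (g : PSpm) (P Q : Pt F m) : Orth (g • P) (g • Q) ↔ Orth P Q := by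
  induction g using QuotientGroup.induction_on with
  | _ s =>
    induction P using Projectivization.ind with | _ v hv => ?_
    induction Q using Projectivization.ind with | _ w hw => ?_
    rw [psp_smul_mk, psp_smul_mk, orth_mk, orth_mk, form_mulVec]

theorem orth_symm {P Q : Pt F m} (h : Orth P Q) : Orth Q P := (sympBil_isAlt (F := F) m).isRefl _ _ h

theorem orth_self (P : Pt F m) : Orth P P := (sympBil_isAlt (F := F) m) _

theorem le_sup_iff_orth (P Q R : Pt F m) :
    R.submodule ≤ P.submodule ⊔ Q.submodule ↔ ∀ X : Pt F m, Orth P X → Orth Q X → Orth R X := by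
  constructor
  · intro h X hP hQ
    rw [submodule_eq, submodule_eq, submodule_eq, Submodule.span_singleton_le_iff_mem] at h
    obtain ⟨y, hy, z, hz, e⟩ := Submodule.mem_sup.1 h
    obtain ⟨a, rfl⟩ := Submodule.mem_span_singleton.1 hy
    obtain ⟨b, rfl⟩ := Submodule.mem_span_singleton.1 hz
    rw [Orth, ← e]
    simp only [map_add, map_smul, LinearMap.add_apply, LinearMap.smul_apply]
    rw [hP, hQ, smul_zero, smul_zero, add_zero]
  · intro h
    rw [submodule_eq, submodule_eq, submodule_eq, Submodule.span_singleton_le_iff_mem]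
    by_contra hcon
    obtain ⟨z, hz, hzR⟩ := exists_perp_not_orth (sympBil_nondegenerate (F := F) m).2 hcon
    have hz0 : z ≠ 0 := fun h0 => hzR (by rw [h0, map_zero])
    obtain ⟨a, ha⟩ := exists_smul_eq_mk_rep F z hz0
    have hX : ∀ S : Pt F m, Orth S (Projectivization.mk F z hz0) ↔ sympBil F m S.rep z = 0 := fun S => by
      conv_lhs => rw [← mk_rep S]
      exact orth_mk _ _
    exact hzR ((hX R).1 (h _ ((hX P).2 (mem_perp.1 hz _ (Submodule.mem_sup_left (Submodule.mem_span_singleton_self _))))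
      ((hX Q).2 (mem_perp.1 hz _ (Submodule.mem_sup_right (Submodule.mem_span_singleton_self _))))))

variable [Finite F]

theorem exists_equivariant (α : MulAut PSpm) (P0 Q0 : Pt F m)
    (h : (stabilizer PSpm P0).map α.toMonoidHom = stabilizer PSpm Q0) :
    ∃ f : Pt F m ≃ Pt F m, ∀ (g : PSpm) P, f (g • P) = α g • f P := by
  have hex : ∀ P : Pt F m, ∃ g : PSpm, g • P0 = P := fun P => exists_smul_eq PSpm P0 P
  choose g hg using hex
  have hwd : ∀ x y : PSpm, x • P0 = y • P0 ↔ α x • Q0 = α y • Q0 := fun x y => by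
    rw [eq_comm, ← inv_smul_eq_iff, ← mul_smul, ← mem_stabilizer_iff, eq_comm (a := α x • Q0), ← inv_smul_eq_iff,
      ← mul_smul, ← mem_stabilizer_iff, ← map_inv, ← map_mul, ← h]
    exact (Subgroup.mem_map_iff_mem (f := α.toMonoidHom) α.injective).symm
  let f : Pt F m → Pt F m := fun P => α (g P) • Q0
  have hinj : Function.Injective f := fun P Q e => by
    rw [← hg P, ← hg Q]; exact (hwd _ _).2 e
  refine ⟨Equiv.ofBijective f ⟨hinj, Finite.injective_iff_surjective.1 hinj⟩, fun x P => ?_⟩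
  show α (g (x • P)) • Q0 = α x • α (g P) • Q0
  rw [← mul_smul, ← map_mul]
  exact (hwd _ _).1 (by rw [hg, mul_smul, hg])

theorem card_orth_lt (P : Pt F m) :
    {X : Pt F m | X ≠ P ∧ Orth P X}.ncard < {X : Pt F m | ¬ Orth P X}.ncard := by
  obtain ⟨u, hu⟩ := alt_exists_partner (sympBil_nondegenerate (F := F) m).1 (rep_nonzero P)
  have hu0 : u ≠ 0 := fun h => by simp [h] at hu
  have hne : ∀ X : Pt F m, Orth P X → X.rep + u ≠ 0 := fun X hX h0 => by
    have := congrArg (sympBil F m P.rep) h0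
    rw [map_add, show sympBil F m P.rep X.rep = 0 from hX, hu, map_zero, zero_add] at this
    exact one_ne_zero this
  classical
  let ι : Pt F m → Pt F m := fun X => if h : Orth P X then Projectivization.mk F (X.rep + u) (hne X h) else X
  have hno : ∀ X : Pt F m, Orth P X → ¬ Orth P (ι X) := fun X hX => by
    simp only [ι, dif_pos hX]
    conv => rw [← mk_rep P]
    rw [orth_mk, map_add, show sympBil F m P.rep X.rep = 0 from hX, hu, zero_add]
    exact one_ne_zero
  have hinj : Set.InjOn ι {X | X ≠ P ∧ Orth P X} := by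
    intro X hX Y hY h
    simp only [ι, dif_pos hX.2, dif_pos hY.2] at h
    obtain ⟨c, hc⟩ := (mk_eq_mk_iff' F _ _ _ _).1 h
    have h1 := congrArg (sympBil F m P.rep) hc
    rw [map_smul, map_add, map_add, show sympBil F m P.rep Y.rep = 0 from hY.2,
      show sympBil F m P.rep X.rep = 0 from hX.2, hu, zero_add, smul_eq_mul, mul_one] at h1
    rw [h1, one_smul, add_left_inj] at hc
    rw [← mk_rep X, ← mk_rep Y]
    exact mk_congr _ _ 1 (by rw [one_smul, hc])
  rw [← Set.ncard_image_of_injOn hinj]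
  refine Set.ncard_lt_ncard ?_ (Set.toFinite _)
  rw [Set.ssubset_iff_subset_ne]
  refine ⟨?_, fun h => ?_⟩
  · rintro _ ⟨X, hX, rfl⟩; exact hno X hX.2
  · have hmem : Projectivization.mk F u hu0 ∈ {X : Pt F m | ¬ Orth P X} := by
      show ¬ Orth P _
      conv => rw [← mk_rep P]
      rw [orth_mk, hu]; exact one_ne_zero
    rw [← h] at hmem
    obtain ⟨X, hX, e⟩ := hmem
    simp only [ι, dif_pos hX.2] at e
    obtain ⟨c, hc⟩ := (mk_eq_mk_iff' F _ _ _ _).1 e
    have h1 := congrArg (sympBil F m P.rep) hc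
    rw [map_smul, map_add, show sympBil F m P.rep X.rep = 0 from hX.2, hu, zero_add, smul_eq_mul, mul_one] at h1
    rw [h1, one_smul, eq_comm, add_eq_right] at hc
    exact rep_nonzero X hc

theorem exists_other_orth (hm : 2 ≤ m) (P : Pt F m) : ∃ X, X ≠ P ∧ Orth P X := by
  have hd : Module.finrank F (perp (sympBil F m) (F ∙ P.rep)) = 2 * m - 1 := by
    rw [finrank_perp_sp, finrank_span_singleton (rep_nonzero P)]
  have hlt : (F ∙ P.rep : Submodule F (Vec F m)) < perp (sympBil F m) (F ∙ P.rep) := by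
    refine lt_of_le_of_ne ?_ (fun e => ?_)
    · rw [Submodule.span_singleton_le_iff_mem]
      exact mem_perp_span.2 fun w hw => by rw [Set.mem_singleton_iff.1 hw]; exact (sympBil_isAlt m) _
    · rw [← e, finrank_span_singleton (rep_nonzero P)] at hd; omega
  obtain ⟨x, hx, hxP⟩ := SetLike.exists_of_lt hlt
  have hx0 : x ≠ 0 := fun h => hxP (h ▸ Submodule.zero_mem _)
  refine ⟨Projectivization.mk F x hx0, fun h => ?_, ?_⟩
  · rw [← mk_rep P] at h
    obtain ⟨c, hc⟩ := (mk_eq_mk_iff' F _ _ _ _).1 h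
    exact hxP (Submodule.mem_span_singleton.2 ⟨c, hc⟩)
  · conv => rw [← mk_rep P]
    rw [orth_mk]
    exact mem_perp.1 hx _ (Submodule.mem_span_singleton_self _)

theorem preserves_orth (hm : 2 ≤ m) (α : MulAut PSpm) (f : Pt F m ≃ Pt F m)
    (hf : ∀ (g : PSpm) P, f (g • P) = α g • f P) (P Q : Pt F m) : Orth (f P) (f Q) ↔ Orth P Q := by
  classical
  have key : ∀ P Q Q' : Pt F m, Q ≠ P → Q' ≠ P → (Orth P Q ↔ Orth P Q') →
      (Orth (f P) (f Q) ↔ Orth (f P) (f Q')) := by
    intro P Q Q' hQ hQ' h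
    obtain ⟨k, hk1, hk2⟩ := psp_move_perp hQ hQ' h
    have e1 : α k • f P = f P := by rw [← hf, hk1]
    have e2 : α k • f Q = f Q' := by rw [← hf, hk2]
    rw [← orth_smul (α k), e1, e2]
  obtain ⟨X, hXP, hX⟩ := exists_other_orth hm P
  obtain ⟨u, hu⟩ := alt_exists_partner (sympBil_nondegenerate (F := F) m).1 (rep_nonzero P)
  have hu0 : u ≠ 0 := fun h => by simp [h] at hu
  set Y := Projectivization.mk F u hu0
  have hY : ¬ Orth P Y := by conv => rw [← mk_rep P]
                             rw [orth_mk, hu]; exact one_ne_zero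
  have hYP : Y ≠ P := fun h => hY (h ▸ orth_self P)
  rcases eq_or_ne Q P with rfl | hQP
  · exact iff_of_true (orth_self _) (orth_self _)
  by_cases hXf : Orth (f P) (f X)
  · have hYf : ¬ Orth (f P) (f Y) := by
      intro hYf
      obtain ⟨u', hu'⟩ := alt_exists_partner (sympBil_nondegenerate (F := F) m).1 (rep_nonzero (f P))
      have hu0' : u' ≠ 0 := fun h => by simp [h] at hu'
      obtain ⟨Z, hZ⟩ := f.surjective (Projectivization.mk F u' hu0')
      have hZf : ¬ Orth (f P) (f Z) := by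
        rw [hZ]
        conv => rw [← mk_rep (f P)]
        rw [orth_mk, hu']; exact one_ne_zero
      have hZP : Z ≠ P := fun h => hZf (h ▸ orth_self _)
      by_cases hPZ : Orth P Z
      · exact hZf ((key P X Z hXP hZP (iff_of_true hX hPZ)).1 hXf)
      · exact hZf ((key P Y Z hYP hZP (iff_of_false hY hPZ)).1 hYf)
    by_cases hPQ : Orth P Q
    · exact iff_of_true ((key P X Q hXP hQP (iff_of_true hX hPQ)).1 hXf) hPQ
    · exact iff_of_false (fun h => hYf ((key P Y Q hYP hQP (iff_of_false hY hPQ)).2 h)) hPQ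
  · exfalso
    have h1 : f '' {Z | Z ≠ P ∧ Orth P Z} ⊆ {Z | ¬ Orth (f P) Z} := by
      rintro _ ⟨Z, hZ, rfl⟩ h
      exact hXf ((key P Z X hZ.1 hXP (iff_of_true hZ.2 hX)).1 h)
    have h2 : {Z | Z ≠ f P ∧ Orth (f P) Z} ⊆ f '' {Z | ¬ Orth P Z} := by
      rintro Z ⟨hZ1, hZ2⟩
      obtain ⟨Z, rfl⟩ := f.surjective Z
      refine ⟨Z, fun h => ?_, rfl⟩
      exact hXf ((key P Z X (fun e => hZ1 (by rw [e])) hXP (iff_of_true h hX)).1 hZ2)
    have h3 : {Z | ¬ Orth (f P) Z} ⊆ f '' {Z | Z ≠ P ∧ Orth P Z} := by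
      rintro Z hZ
      obtain ⟨Z, rfl⟩ := f.surjective Z
      have hZP : Z ≠ P := fun e => hZ (by rw [e]; exact orth_self _)
      obtain ⟨W, hWP, hW⟩ := exists_other_orth hm (f P)
      obtain ⟨W, rfl⟩ := f.surjective W
      have hW' : W ≠ P := fun e => hWP (by rw [e])
      refine ⟨Z, ⟨hZP, ?_⟩, rfl⟩
      by_contra hPZ
      by_cases hPW : Orth P W
      · exact hXf ((key P W X hW' hXP (iff_of_true hPW hX)).1 hW)
      · exact hZ ((key P W Z hW' hZP (iff_of_false hPW hPZ)).1 hW)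
    have h4 : f '' {Z | ¬ Orth P Z} ⊆ {Z | Z ≠ f P ∧ Orth (f P) Z} := by
      rintro _ ⟨Z, hZ, rfl⟩
      have hZP : Z ≠ P := fun e => hZ (by rw [e]; exact orth_self _)
      refine ⟨fun e => hZP (f.injective e), ?_⟩
      by_contra h
      obtain ⟨Z', ⟨-, hZ'⟩, e⟩ := h3 h
      exact hZ (f.injective e ▸ hZ')
    have a1 := card_orth_lt P
    have a2 := card_orth_lt (f P)
    rw [← Set.Subset.antisymm h1 h3, Set.ncard_image_of_injective _ f.injective,
      Set.Subset.antisymm h2 h4, Set.ncard_image_of_injective _ f.injective] at a2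
    omega

theorem bilin_proportional {V : Type*} [AddCommGroup V] [Module F V] [FiniteDimensional F V]
    (B B' : V →ₗ[F] V →ₗ[F] F) (hN : B.SeparatingLeft) (h : ∀ x y, B x y = 0 → B' x y = 0) :
    ∃ c : F, B' = c • B := by
  have hcx : ∀ x, ∃ c : F, B' x = c • B x := fun x => by
    obtain ⟨c, hc⟩ := Submodule.mem_span_singleton.1 (show B' x ∈ F ∙ B x by
      refine (mem_span_of_iInf_ker_le_ker (ι := Unit) (L := fun _ => B x) (K := B' x) ?_) |> fun h => by
        simpa using h
      simp only [iInf_const]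
      intro y hy
      exact h x y hy)
    exact ⟨c, hc.symm⟩
  choose c hc using hcx
  have hne : ∀ x, x ≠ 0 → B x ≠ 0 := fun x hx h0 => hx (hN x fun y => by rw [h0]; rfl)
  rcases subsingleton_or_nontrivial V with hV | hV
  · exact ⟨0, LinearMap.ext fun x => by rw [Subsingleton.elim x 0, map_zero, map_zero]⟩
  obtain ⟨x0, hx0⟩ := exists_ne (0 : V)
  refine ⟨c x0, LinearMap.ext fun x => ?_⟩
  rw [hc, LinearMap.smul_apply]
  rcases eq_or_ne x 0 with rfl | hx
  · rw [map_zero, smul_zero, smul_zero]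
  by_cases hdep : ∃ a : F, x = a • x0
  · obtain ⟨a, rfl⟩ := hdep
    rw [← hc, map_smul, map_smul, hc, smul_comm]
  · push Not at hdep
    congr 1
    have e := hc (x0 + x)
    rw [map_add, map_add, hc, hc, smul_add] at e
    have e' : (c x0 - c (x0 + x)) • x0 + (c x - c (x0 + x)) • x = 0 := by
      by_contra hne0
      refine hne _ hne0 ?_
      rw [map_add, map_smul, map_smul]
      linear_combination (norm := module) e
    rcases eq_or_ne (c x - c (x0 + x)) 0 with h0 | h0
    · rw [h0, zero_smul, add_zero, smul_eq_zero, sub_eq_zero] at e'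
      rw [sub_eq_zero.1 h0, e'.resolve_right hx0]
    · refine absurd ?_ (hdep (-((c x - c (x0 + x))⁻¹ * (c x0 - c (x0 + x)))))
      rw [neg_smul, ← smul_smul, eq_neg_of_add_eq_zero_left e', smul_neg, inv_smul_smul₀ h0, neg_neg]

theorem semilinear_of_orth (hm : 2 ≤ m) (f : Pt F m ≃ Pt F m) (hf : ∀ P Q, Orth (f P) (f Q) ↔ Orth P Q) :
    ∃ (A : GSpm) (σ : F ≃+* F), ∀ (v : Vec F m) (hv : v ≠ 0),
      f (Projectivization.mk F v hv) = Projectivization.mk F (semiVec A σ v) (semiVec_ne_zero A σ hv) := by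
  classical
  let e : Fin (m + m) ≃ Fin m ⊕ Fin m := finSumFinEquiv.symm
  let L : Vec F m ≃ₗ[F] (Fin (m + m) → F) := LinearEquiv.funCongrLeft F F e
  let toN : Pt F m → AutPSL.Pt F (m + m) := Projectivization.map L.toLinearMap L.injective
  let toV : AutPSL.Pt F (m + m) → Pt F m := Projectivization.map L.symm.toLinearMap L.symm.injective
  have hNV : ∀ P, toN (toV P) = P := fun P => by
    induction P using Projectivization.ind with | _ v hv => ?_
    exact AutPSL.mk_congr _ _ 1 (by rw [one_smul]; exact (L.apply_symm_apply v).symm)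
  have hVN : ∀ P, toV (toN P) = P := fun P => by
    induction P using Projectivization.ind with | _ v hv => ?_
    exact mk_congr _ _ 1 (by rw [one_smul]; exact (L.symm_apply_apply v).symm)
  let eP : Pt F m ≃ AutPSL.Pt F (m + m) := ⟨toN, toV, hVN, hNV⟩
  let f' : AutPSL.Pt F (m + m) ≃ AutPSL.Pt F (m + m) := eP.symm.trans (f.trans eP)
  have hsub : ∀ P : Pt F m, (toN P).submodule = P.submodule.map L.toLinearMap := fun P => by
    induction P using Projectivization.ind with | _ v hv => ?_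
    show (Projectivization.mk F (L v) _).submodule = _
    rw [submodule_mk, submodule_mk, Submodule.map_span, Set.image_singleton]; rfl
  have hcol : AutPSL.PreservesLines f' := by
    intro P Q R h
    obtain ⟨P, rfl⟩ := eP.surjective P
    obtain ⟨Q, rfl⟩ := eP.surjective Q
    obtain ⟨R, rfl⟩ := eP.surjective R
    simp only [f', Equiv.trans_apply, Equiv.symm_apply_apply]
    simp only [eP, Equiv.coe_fn_mk, hsub, ← Submodule.map_sup] at h ⊢
    refine Submodule.map_mono ?_
    rw [Submodule.map_le_map_iff_of_injective L.injective, le_sup_iff_orth] at h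
    rw [le_sup_iff_orth]
    intro X hP hQ
    obtain ⟨X, rfl⟩ := f.surjective X
    rw [hf] at hP hQ ⊢
    exact h X hP hQ
  obtain ⟨A, σ, hA⟩ := AutPSL.exists_semilinear_of_three (by omega : 3 ≤ m + m) f' hcol
  let A' : GL (Fin m ⊕ Fin m) F := Units.map (Matrix.reindexAlgEquiv F F e).toMonoidHom A
  have hA' : ∀ w : Vec F m, (A' : Matrix (Fin m ⊕ Fin m) (Fin m ⊕ Fin m) F) *ᵥ w =
      L.symm ((A : Matrix (Fin (m + m)) (Fin (m + m)) F) *ᵥ L w) := fun w => by
    show (Matrix.reindex e e (A : Matrix (Fin (m + m)) (Fin (m + m)) F)) *ᵥ w = _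
    rw [Matrix.reindex_apply, Matrix.submatrix_mulVec_equiv]
    rfl
  have hne : ∀ v : Vec F m, v ≠ 0 → (A' : Matrix (Fin m ⊕ Fin m) (Fin m ⊕ Fin m) F) *ᵥ (fun i => σ (v i)) ≠ 0 :=
    fun v hv h => (smul_ne_zero_iff_ne A').2 (fun h0 => hv (funext fun i => σ.injective (by simpa using congrFun h0 i))) h
  have hfv : ∀ (v : Vec F m) (hv : v ≠ 0),
      f (Projectivization.mk F v hv) = Projectivization.mk F _ (hne v hv) := fun v hv => by
    apply eP.injective
    have h1 := hA (L v) (fun h => hv (L.map_eq_zero_iff.1 h))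
    have h2 : f' (eP (Projectivization.mk F v hv)) = eP (f (Projectivization.mk F v hv)) := by simp [f']
    rw [← h2]
    refine h1.trans ?_
    rw [AutPSL.gl_smul_mk]
    refine AutPSL.mk_congr _ _ 1 ?_
    rw [one_smul]
    show L ((A' : Matrix (Fin m ⊕ Fin m) (Fin m ⊕ Fin m) F) *ᵥ fun i => σ (v i)) = _
    rw [hA', LinearEquiv.apply_symm_apply]
    rfl
  -- similitude
  let T : Vec F m →ₗ[F] Vec F m := Matrix.toLin' (A' : Matrix (Fin m ⊕ Fin m) (Fin m ⊕ Fin m) F)
  have hker : ∀ x y, sympBil F m x y = 0 → (sympBil F m).compl₁₂ T T x y = 0 := fun x y h => by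
    rcases eq_or_ne x 0 with rfl | hx
    · simp
    rcases eq_or_ne y 0 with rfl | hy
    · simp
    let x' : Vec F m := fun i => σ.symm (x i)
    let y' : Vec F m := fun i => σ.symm (y i)
    have hx' : x' ≠ 0 := fun h0 => hx (funext fun i => σ.symm.injective (by simpa [x'] using congrFun h0 i))
    have hy' : y' ≠ 0 := fun h0 => hy (funext fun i => σ.symm.injective (by simpa [y'] using congrFun h0 i))
    have h0 : Orth (Projectivization.mk F x' hx') (Projectivization.mk F y' hy') := by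
      rw [orth_mk, form_map σ.symm, h, map_zero]
    rw [← hf, hfv, hfv, orth_mk] at h0
    simpa [x', y', T, LinearMap.compl₁₂_apply, Matrix.toLin'_apply] using h0
  obtain ⟨c, hc⟩ := bilin_proportional _ _ (sympBil_nondegenerate (F := F) m).1 hker
  have hc0 : c ≠ 0 := fun h0 => by
    have hne1 : (Pi.single (Sum.inl ⟨0, by omega⟩) 1 : Vec F m) ≠ 0 := by simp
    obtain ⟨u, hu⟩ := alt_exists_partner (sympBil_nondegenerate (F := F) m).1
      ((smul_ne_zero_iff_ne A').2 hne1)
    have h := LinearMap.congr_fun₂ hc (Pi.single (Sum.inl ⟨0, by omega⟩) 1)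
      (((A'⁻¹ : GL (Fin m ⊕ Fin m) F) : Matrix (Fin m ⊕ Fin m) (Fin m ⊕ Fin m) F) *ᵥ u)
    rw [h0, zero_smul, LinearMap.compl₁₂_apply] at h
    simp only [T, Matrix.toLin'_apply, Matrix.mulVec_mulVec, ← Units.val_mul, mul_inv_cancel, Units.val_one,
      Matrix.one_mulVec] at h
    exact one_ne_zero (α := F) (hu.symm.trans h)
  refine ⟨⟨A', ⟨Units.mk0 c hc0, fun u v => ?_⟩⟩, σ, fun v hv => hfv v hv⟩
  have h := LinearMap.congr_fun₂ hc u v
  simp only [T, LinearMap.compl₁₂_apply, Matrix.toLin'_apply, LinearMap.smul_apply, sympBil_apply, smul_eq_mul] at h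
  exact h

/-- An automorphism mapping a point stabiliser to a point stabiliser is semilinear. -/
theorem semi_of_point (hm : 2 ≤ m) (α : MulAut PSpm) (P0 Q0 : Pt F m)
    (h : (stabilizer PSpm P0).map α.toMonoidHom = stabilizer PSpm Q0) :
    ∃ (A : GSpm) (σ : F ≃+* F), α = semiAut A σ := by
  obtain ⟨f, hf⟩ := exists_equivariant α P0 Q0 h
  obtain ⟨A, σ, hA⟩ := semilinear_of_orth hm f (preserves_orth hm α f hf)
  refine ⟨A, σ, MulEquiv.ext fun g => psp_ext fun X => ?_⟩
  obtain ⟨P, rfl⟩ := f.surjective X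
  rw [← hf]
  induction g using QuotientGroup.induction_on with
  | _ s =>
    induction P using Projectivization.ind with
    | _ v hv =>
      rw [psp_smul_mk, hA, hA, semiAut_mk, psp_smul_mk]
      exact mk_congr _ _ 1 (by rw [one_smul, semiHom_mulVec])

/-- The image of a point stabiliser: a point stabiliser, or a line stabiliser in dimension four and even characteristic. -/
theorem point_or_line (hm : 2 ≤ m) (α : MulAut PSpm) (P0 : Pt F m) :
    (∃ Q0 : Pt F m, (stabilizer PSpm P0).map α.toMonoidHom = stabilizer PSpm Q0) ∨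
      (m = 2 ∧ (2 : F) = 0 ∧ ∃ W : Submodule F (Vec F m), Module.finrank F W = 2 ∧
        (∀ a ∈ W, ∀ b ∈ W, sympBil F m a b = 0) ∧ (stabilizer PSpm P0).map α.toMonoidHom = stabSub W) := by
  obtain ⟨W, hbot, hiso, hW⟩ := exists_isotropic_stab (by omega) α P0
  rcases dim_isotropic α P0 W hbot hiso hW with h1 | ⟨rfl, h2⟩
  · exact Or.inl ⟨Projectivization.mk'' W h1, by rw [hW, ← stabSub_point, submodule_mk'']⟩
  · refine Or.inr ⟨rfl, ?_, W, h2, hiso, hW⟩
    by_contra hchar
    obtain ⟨t, ht⟩ := exists_map_isotropic W (coordSub stdLine) hiso (coordSub_isotropic stdLine_swap)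
      (by rw [h2, finrank_coordSub]; rfl)
    refine no_duality hchar (MulAut.conj (QuotientGroup.mk t) * α) P0 ?_
    have e : MulEquiv.toMonoidHom (MulAut.conj (QuotientGroup.mk t : Cfsg.PSp 2 F) * α) =
      (MulEquiv.toMonoidHom (MulAut.conj (QuotientGroup.mk t : Cfsg.PSp 2 F))).comp (MulEquiv.toMonoidHom α) := rfl
    rw [e, ← Subgroup.map_map, hW]
    ext x
    rw [Subgroup.mem_map_equiv, MulAut.conj_symm_apply]
    induction x using QuotientGroup.induction_on with
    | _ s =>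
      rw [← QuotientGroup.mk_inv, ← QuotientGroup.mk_mul, ← QuotientGroup.mk_mul, mk_mem_stabSub_iff,
        mk_mem_stabSub_iff, ← ht]
      have hcoe : ((t⁻¹ * s * t : Matrix.symplecticGroup (Fin 2) F) : Matrix (Fin 2 ⊕ Fin 2) (Fin 2 ⊕ Fin 2) F) =
          ((t⁻¹ : Matrix.symplecticGroup (Fin 2) F) : Matrix (Fin 2 ⊕ Fin 2) (Fin 2 ⊕ Fin 2) F) *
            ((s : Matrix (Fin 2 ⊕ Fin 2) (Fin 2 ⊕ Fin 2) F) * (t : Matrix (Fin 2 ⊕ Fin 2) (Fin 2 ⊕ Fin 2) F)) :=
        Matrix.mul_assoc _ _ _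
      rw [hcoe, Matrix.toLin'_mul, Matrix.toLin'_mul, Submodule.map_comp, Submodule.map_comp]
      constructor
      · intro h
        conv_rhs => rw [← h]
        rw [← Submodule.map_comp (Matrix.toLin' ((t⁻¹ : Matrix.symplecticGroup (Fin 2) F) :
          Matrix (Fin 2 ⊕ Fin 2) (Fin 2 ⊕ Fin 2) F)), ← Matrix.toLin'_mul, sp_mul_inv, Matrix.toLin'_one,
          Submodule.map_id]
      · intro h
        rw [h, ← Submodule.map_comp, ← Matrix.toLin'_mul, sp_inv_mul, Matrix.toLin'_one, Submodule.map_id]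

/-- Every automorphism is semilinear, unless the dimension is four and the characteristic two. -/
theorem exists_semi (hm : 2 ≤ m) (h4 : m = 2 → (2 : F) ≠ 0) (α : MulAut PSpm) :
    ∃ (A : GSpm) (σ : F ≃+* F), α = semiAut A σ := by
  haveI := nontrivial_pt (F := F) (show 1 ≤ m by omega)
  obtain ⟨P0⟩ : Nonempty (Pt F m) := inferInstance
  rcases point_or_line hm α P0 with ⟨Q0, h⟩ | ⟨h2, hc, -⟩
  · exact semi_of_point hm α P0 Q0 h
  · exact absurd hc (h4 h2)

/-- The semilinear automorphisms have index at most two. -/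
theorem sq_semi (hm : 2 ≤ m) (α β : MulAut PSpm) (hα : α ∉ Cfsg.gammaPSp m F) (hβ : β ∉ Cfsg.gammaPSp m F) :
    β⁻¹ * α ∈ Cfsg.gammaPSp m F := by
  haveI := nontrivial_pt (F := F) (show 1 ≤ m by omega)
  obtain ⟨P0⟩ : Nonempty (Pt F m) := inferInstance
  have line : ∀ γ : MulAut PSpm, γ ∉ Cfsg.gammaPSp m F → ∃ W : Submodule F (Vec F m), Module.finrank F W = 2 ∧
      (∀ a ∈ W, ∀ b ∈ W, sympBil F m a b = 0) ∧ (stabilizer PSpm P0).map γ.toMonoidHom = stabSub W := by
    intro γ hγ
    rcases point_or_line hm γ P0 with ⟨Q0, h⟩ | ⟨-, -, hW⟩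
    · obtain ⟨A, σ, rfl⟩ := semi_of_point hm γ P0 Q0 h
      exact absurd (semi_mem_gamma A σ) hγ
    · exact hW
  obtain ⟨W, hW2, hWi, hW⟩ := line α hα
  obtain ⟨W', hW2', hWi', hW'⟩ := line β hβ
  obtain ⟨t, ht⟩ := exists_map_isotropic W' W hWi' hWi (hW2'.trans hW2.symm)
  obtain ⟨g, hg⟩ := β.surjective (QuotientGroup.mk t)
  have hmem : ∀ x : PSpm, x • g • P0 = g • P0 ↔ β x ∈ stabSub W := by
    intro x
    rw [← inv_smul_eq_iff, ← mul_smul, ← mul_smul, lift_stab hW', map_mul, map_mul, map_inv, hg]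
    obtain ⟨s, hs⟩ := QuotientGroup.mk_surjective (β x)
    rw [← hs, mul_assoc, ← QuotientGroup.mk_inv, ← QuotientGroup.mk_mul, ← QuotientGroup.mk_mul]
    rw [mk_mem_stabSub_iff, mk_mem_stabSub_iff, ← ht]
    show W'.map (Matrix.toLin' ((𝕄 (t⁻¹ : Spm)) * ((𝕄 s) * (𝕄 t)))) = W' ↔ _
    rw [Matrix.toLin'_mul, Matrix.toLin'_mul, Submodule.map_comp, Submodule.map_comp]
    constructor
    · intro h
      conv_rhs => rw [← h]
      rw [← Submodule.map_comp (Matrix.toLin' (𝕄 (t⁻¹ : Spm))), ← Matrix.toLin'_mul, sp_mul_inv, Matrix.toLin'_one,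
        Submodule.map_id]
    · intro h
      rw [h, ← Submodule.map_comp, ← Matrix.toLin'_mul, sp_inv_mul, Matrix.toLin'_one, Submodule.map_id]
  have h : (stabilizer PSpm P0).map (β⁻¹ * α).toMonoidHom = stabilizer PSpm (g • P0) := by
    ext x
    rw [mem_stabilizer_iff, hmem, ← hW, Subgroup.mem_map_equiv, Subgroup.mem_map_equiv]
    rfl
  obtain ⟨A, σ, e⟩ := semi_of_point hm (β⁻¹ * α) P0 (g • P0) h
  rw [e]
  exact semi_mem_gamma A σ

end CfsgLib.KnownC.AutPSp
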