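import Cfsg.Agent.Lib.KnownC.AutPSp.Exceptional
import Cfsg.Agent.Lib.KnownC.AutPSp.Balance
import Cfsg.Agent.Lib.KnownC.AutPSp.Field
import Cfsg.Agent.Lib.KnownC.AutPSL.Outer

/-!
The orders of the automorphism and outer automorphism groups of `PSp_{2m}`.
-/

namespace CfsgLib.KnownC.AutPSp

open Matrix CfsgLib.Classical

variable {F : Type*} [Field F] {m : ℕ}

local notation "PSpm" => Cfsg.PSp m F
local notation "GSpm" => Cfsg.GSp m F

theorem mem_gamma_iff (β : MulAut PSpm) :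
    β ∈ Cfsg.gammaPSp m F ↔ ∃ (A : GSpm) (σ : F ≃+* F), β = semiAut A σ := by
  refine ⟨fun h => ?_, fun ⟨A, σ, e⟩ => e ▸ semi_mem_gamma A σ⟩
  induction h using Subgroup.closure_induction with
  | mem x hx =>
    obtain ⟨g, σ, hg, hi⟩ := hx
    exact ⟨⟨g, hg⟩, σ, (induced_iff ⟨g, hg⟩ σ x).1 hi⟩
  | one => exact ⟨1, 1, semiAut_one.symm⟩
  | mul x y _ _ hx hy =>
    obtain ⟨A, σ, rfl⟩ := hx; obtain ⟨B, τ, rfl⟩ := hy
    exact ⟨_, _, semiAut_mul A B σ τ⟩
  | inv x _ hx =>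
    obtain ⟨A, σ, rfl⟩ := hx
    exact ⟨_, _, semiAut_inv A σ⟩

theorem card_inn [Finite F] (hm : 1 ≤ m) : Nat.card (Cfsg.Inn PSpm) = Nat.card PSpm :=
  (Nat.card_congr (MonoidHom.ofInjective (conj_injective_psp (F := F) hm)).toEquiv).symm

variable [Fintype F]

theorem relIndex_inn_inndiag (hm : 1 ≤ m) :
    (Cfsg.Inn PSpm).relIndex (Cfsg.inndiagPSp m F) = Nat.gcd 2 (Fintype.card F - 1) := by
  classical
  let χ : GSpm →* MulAut PSpm := MonoidHom.mk' (fun A => semiAut A 1) (fun A B => by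
    rw [semiAut_mul, gMap_one, one_mul])
  have hr : χ.range = Cfsg.inndiagPSp m F := by
    ext β
    rw [inndiag_iff_mem]
    exact ⟨fun ⟨A, hA⟩ => ⟨A, hA.symm⟩, fun ⟨A, hA⟩ => ⟨A, hA.symm⟩⟩
  have hc : (Cfsg.Inn PSpm).comap χ = ((powMonoidHom 2 : Fˣ →* Fˣ).range).comap (multHom hm) := by
    ext A
    exact mem_inn_iff hm A
  rw [← hr, ← Subgroup.index_comap, hc, Subgroup.index_comap_of_surjective _ (multHom_surjective hm),
    IsCyclic.index_powMonoidHom_range, Nat.card_units, Nat.card_eq_fintype_card, Nat.gcd_comm]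

theorem card_inndiag (hm : 1 ≤ m) :
    Nat.card (Cfsg.inndiagPSp m F) = Nat.gcd 2 (Fintype.card F - 1) * Nat.card PSpm := by
  have h1 : ((Cfsg.Inn PSpm).subgroupOf (Cfsg.inndiagPSp m F)).index = Nat.gcd 2 (Fintype.card F - 1) :=
    relIndex_inn_inndiag hm
  rw [← ((Cfsg.Inn PSpm).subgroupOf (Cfsg.inndiagPSp m F)).card_mul_index, h1,
    Nat.card_congr (Subgroup.subgroupOfEquivOfLe inn_le_inndiag).toEquiv, card_inn hm, mul_comm]

theorem card_gamma (hm : 1 ≤ m) :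
    Nat.card (Cfsg.gammaPSp m F) =
      Nat.card (F ≃+* F) * (Nat.gcd 2 (Fintype.card F - 1) * Nat.card PSpm) := by
  classical
  rw [← card_inndiag hm, mul_comm, ← Nat.card_prod]
  refine (Nat.card_eq_of_bijective (fun x : ↥(Cfsg.inndiagPSp m F) × (F ≃+* F) =>
    (⟨(x.1 : MulAut PSpm) * semiAut 1 x.2, by
      obtain ⟨A, hA⟩ := (inndiag_iff_mem _).1 x.1.2
      rw [hA, semiAut_mul]; exact semi_mem_gamma _ _⟩ : ↥(Cfsg.gammaPSp m F))) ⟨?_, ?_⟩).symm
  · rintro ⟨⟨β, hβ⟩, σ⟩ ⟨⟨γ, hγ⟩, τ⟩ h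
    have h' : β * semiAut 1 σ = γ * semiAut 1 τ := congrArg Subtype.val h
    obtain ⟨A, rfl⟩ := (inndiag_iff_mem β).1 hβ
    obtain ⟨B, rfl⟩ := (inndiag_iff_mem γ).1 hγ
    have e := h'
    rw [semiAut_mul, semiAut_mul, one_mul, one_mul] at e
    obtain rfl := ((semi_eq_iff hm).1 e).1
    simp only [Prod.mk.injEq, Subtype.mk.injEq, and_true]
    exact mul_right_cancel h'
  · rintro ⟨β, hβ⟩
    obtain ⟨A, σ, rfl⟩ := (mem_gamma_iff β).1 hβ
    refine ⟨⟨⟨semiAut A 1, (inndiag_iff_mem _).2 ⟨A, rfl⟩⟩, σ⟩, Subtype.ext ?_⟩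
    show semiAut A 1 * semiAut 1 σ = _
    rw [semiAut_mul, map_one, mul_one, one_mul]

theorem card_ringAut {p f : ℕ} [Fact p.Prime] (hF : Fintype.card F = p ^ f) : Nat.card (F ≃+* F) = f := by
  obtain ⟨e⟩ := AutPSL.ringAut_cyclic (F := F) hF
  rw [Nat.card_congr e.toEquiv, Nat.card_congr Multiplicative.toAdd, Nat.card_zmod]

theorem card_aut_semi {p f : ℕ} [Fact p.Prime] (hF : Fintype.card F = p ^ f) (hm : 2 ≤ m)
    (h4 : m = 2 → (2 : F) ≠ 0) :
    Nat.card (MulAut PSpm) = Nat.gcd 2 (p ^ f - 1) * f * Nat.card PSpm := by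
  have ht : Cfsg.gammaPSp m F = ⊤ := eq_top_iff.2 fun α _ => by
    obtain ⟨A, σ, rfl⟩ := exists_semi hm h4 α
    exact semi_mem_gamma A σ
  rw [← Subgroup.card_top, ← ht, card_gamma (by omega), card_ringAut hF, hF]
  ring

theorem index_gamma_two (h2 : (2 : F) = 0) : (Cfsg.gammaPSp 2 F).index = 2 := by
  rw [Subgroup.index_eq_two_iff]
  have hX : excAut h2 ∉ Cfsg.gammaPSp 2 F := fun h => by
    obtain ⟨A, σ, e⟩ := (mem_gamma_iff _).1 h
    exact excAut_not_mem h2 A σ e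
  refine ⟨excAut h2, fun β => ?_⟩
  by_cases hb : β ∈ Cfsg.gammaPSp 2 F
  · exact Or.inr ⟨hb, fun h => hX ((Subgroup.mul_mem_cancel_left _ hb).1 h)⟩
  · refine Or.inl ⟨?_, hb⟩
    have h := sq_semi le_rfl (excAut h2) β⁻¹ hX (fun h => hb (by simpa using (inv_mem h)))
    rwa [inv_inv] at h

theorem card_aut_exc {f : ℕ} (hF : Fintype.card F = 2 ^ f) (h2 : (2 : F) = 0) :
    Nat.card (MulAut (Cfsg.PSp 2 F)) = 2 * Nat.gcd 2 (2 ^ f - 1) * f * Nat.card (Cfsg.PSp 2 F) := by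
  haveI : Fact (Nat.Prime 2) := ⟨Nat.prime_two⟩
  rw [← (Cfsg.gammaPSp 2 F).card_mul_index, index_gamma_two h2, card_gamma (by omega), card_ringAut hF, hF]
  ring

theorem sqAut_pow_apply (h2 : (2 : F) = 0) (k : ℕ) (x : F) : (sqAut h2 ^ k) x = x ^ (2 ^ k) := by
  induction k with
  | zero => simp
  | succ k ih => rw [pow_succ', RingAut.mul_apply, ih, sqAut_apply, ← pow_mul, ← pow_succ]

theorem orderOf_sqAut {f : ℕ} (hf : 1 ≤ f) (hF : Fintype.card F = 2 ^ f) (h2 : (2 : F) = 0) :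
    orderOf (sqAut h2) = f := by
  haveI : Fact (Nat.Prime 2) := ⟨Nat.prime_two⟩
  classical
  refine (orderOf_eq_iff hf).2 ⟨RingEquiv.ext fun x => ?_, fun k hk hk0 h => ?_⟩
  · rw [sqAut_pow_apply, ← hF, FiniteField.pow_card]; rfl
  · obtain ⟨w, hw⟩ := IsCyclic.exists_generator (α := Fˣ)
    have hcard : orderOf w = 2 ^ f - 1 := by
      rw [orderOf_eq_card_of_forall_mem_zpowers hw, Nat.card_units, Nat.card_eq_fintype_card, hF]
    have hwk : w ^ (2 ^ k - 1) = 1 := by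
      have e : w ^ (2 ^ k) = w := Units.ext (by
        rw [Units.val_pow_eq_pow_val, ← sqAut_pow_apply h2, h]; rfl)
      refine mul_right_cancel (b := w) ?_
      rw [← pow_succ, Nat.sub_add_cancel Nat.one_le_two_pow, e, one_mul]
    have h1 := orderOf_dvd_of_pow_eq_one hwk
    rw [hcard] at h1
    have h3 : 2 ^ k < 2 ^ f := Nat.pow_lt_pow_right (by norm_num) hk
    have h5 : 2 ≤ 2 ^ k := Nat.le_self_pow (by omega) 2
    have := Nat.le_of_dvd (by omega) h1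
    omega

theorem out_exc {f : ℕ} (hf : 1 ≤ f) (hF : Fintype.card F = 2 ^ f) (h2 : (2 : F) = 0) :
    IsCyclic (Cfsg.Out (Cfsg.PSp 2 F)) ∧ Nat.card (Cfsg.Out (Cfsg.PSp 2 F)) = 2 * f := by
  have hcard : Nat.card (Cfsg.Out (Cfsg.PSp 2 F)) = 2 * f := by
    have e : Nat.card (MulAut (Cfsg.PSp 2 F)) =
        Nat.card (Cfsg.Out (Cfsg.PSp 2 F)) * Nat.card (Cfsg.Inn (Cfsg.PSp 2 F)) :=
      Subgroup.card_eq_card_quotient_mul_card_subgroup _
    rw [card_aut_exc hF h2, card_inn (by omega)] at e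
    have hodd : Nat.gcd 2 (2 ^ f - 1) = 1 := by
      refine (Nat.coprime_two_left).2 ?_
      have h4 : (2 ^ f) % 2 = 0 := by
        rw [Nat.pow_mod]; simp [show f ≠ 0 by omega]
      have := Nat.one_le_two_pow (n := f)
      rw [Nat.odd_iff]
      omega
    rw [hodd, mul_one] at e
    exact (Nat.eq_of_mul_eq_mul_right Nat.card_pos e).symm
  refine ⟨?_, hcard⟩
  refine isCyclic_of_orderOf_eq_card (QuotientGroup.mk (excAut h2) : Cfsg.Out (Cfsg.PSp 2 F)) ?_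
  rw [hcard]
  have key : ∀ k, ((QuotientGroup.mk (excAut h2) : Cfsg.Out (Cfsg.PSp 2 F))) ^ k = 1 ↔ 2 * f ∣ k := by
    intro k
    rw [← QuotientGroup.mk_pow, QuotientGroup.eq_one_iff]
    have hsq : ∀ j, excAut h2 ^ (2 * j) = semiAut (semiPow 1 (sqAut h2) j) (sqAut h2 ^ j) := fun j => by
      rw [pow_mul, sq, excAut_sq, semiAut_pow]
    rcases Nat.even_or_odd' k with ⟨j, rfl | rfl⟩
    · rw [hsq, semiPow_one]
      constructor
      · intro h
        obtain ⟨A, hA⟩ := (inndiag_iff_mem _).1 (inn_le_inndiag h)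
        have := ((semi_eq_iff (m := 2) (by omega)).1 hA).1
        rw [← orderOf_dvd_iff_pow_eq_one, orderOf_sqAut hf hF h2] at this
        exact Nat.mul_dvd_mul_left 2 this
      · intro h
        have : sqAut h2 ^ j = 1 := by
          rw [← orderOf_dvd_iff_pow_eq_one, orderOf_sqAut hf hF h2]
          exact Nat.dvd_of_mul_dvd_mul_left (by norm_num) h
        rw [this, semiAut_one]
        exact one_mem _
    · constructor
      · intro h
        exfalso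
        have hg : excAut h2 ^ (2 * j + 1) ∈ Cfsg.gammaPSp 2 F := by
          obtain ⟨A, hA⟩ := (inndiag_iff_mem _).1 (inn_le_inndiag h)
          rw [hA]; exact semi_mem_gamma _ _
        rw [pow_succ, hsq, Subgroup.mul_mem_cancel_left _ (semi_mem_gamma _ _)] at hg
        obtain ⟨A, σ, e⟩ := (mem_gamma_iff _).1 hg
        exact excAut_not_mem h2 A σ e
      · intro h
        exact absurd (dvd_trans (dvd_mul_right 2 f) h) (by omega)
  exact Nat.dvd_antisymm (orderOf_dvd_of_pow_eq_one ((key _).2 dvd_rfl)) ((key _).1 (pow_orderOf_eq_one _))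

end CfsgLib.KnownC.AutPSp
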