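import Cfsg.Agent.Lib.KnownC.AutPSp.Stab
import Cfsg.Agent.Lib.Classical.SympWitt

set_option autoImplicit false
set_option linter.unusedSectionVars false

/-! Suborbit counting: the dimension of the totally isotropic subspace. -/

namespace CfsgLib.KnownC.AutPSp

open Projectivization Matrix MulAction CfsgLib.Classical

variable {F : Type*} [Field F] {m : ℕ}

local notation "Spm" => Matrix.symplecticGroup (Fin m) F
local notation "PSpm" => Cfsg.PSp m F
local notation "𝕄" s => (s : Matrix (Fin m ⊕ Fin m) (Fin m ⊕ Fin m) F)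

theorem finrank_perp_sp (U : Submodule F (Vec F m)) :
    Module.finrank F (perp (sympBil F m) U) = 2 * m - Module.finrank F U := by
  have h : perp (sympBil F m) U = LinearMap.BilinForm.orthogonal (sympBil F m) U := by
    ext x
    exact mem_perp
  rw [h, LinearMap.BilinForm.finrank_orthogonal (sympBil_nondegenerate m) U, Module.finrank_fintype_fun_eq_card,
    Fintype.card_sum, Fintype.card_fin, two_mul]

theorem witt_family_sp {k : ℕ} {a b : Fin k → Vec F m} (ha : LinearIndependent F a) (hb : LinearIndependent F b)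
    (hoa : ∀ i j, sympBil F m (a i) (a j) = 0) (hob : ∀ i j, sympBil F m (b i) (b j) = 0) :
    ∃ t : Spm, ∀ i, (𝕄 t) *ᵥ a i = b i := by
  obtain ⟨g, hg⟩ := witt_family (sympBil_isAlt m) (sympBil_nondegenerate m) ha hb hoa hob
  exact ⟨(spEquiv m).symm g, fun i => by rw [← spEquiv_apply, MulEquiv.apply_symm_apply, hg]⟩

/-- The subspace spanned by some coordinate vectors. -/
def coordSub (s : Finset (Fin m ⊕ Fin m)) : Submodule F (Vec F m) where
  carrier := {x | ∀ i, i ∉ s → x i = 0}
  add_mem' hx hy i hi := by simp [hx i hi, hy i hi]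
  zero_mem' i _ := rfl
  smul_mem' c x hx i hi := by simp [hx i hi]

theorem mem_coordSub {s : Finset (Fin m ⊕ Fin m)} {x : Vec F m} : x ∈ coordSub s ↔ ∀ i, i ∉ s → x i = 0 := Iff.rfl

theorem finrank_coordSub (s : Finset (Fin m ⊕ Fin m)) : Module.finrank F (coordSub (F := F) s) = s.card := by
  classical
  let e : coordSub (F := F) s ≃ₗ[F] (s → F) :=
    { toFun := fun x i => (x : Vec F m) i
      map_add' := fun x y => rfl
      map_smul' := fun c x => rfl
      invFun := fun y => ⟨fun i => if h : i ∈ s then y ⟨i, h⟩ else 0, fun i hi => dif_neg hi⟩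
      left_inv := fun x => Subtype.ext (funext fun i => by
        by_cases h : i ∈ s
        · simp [h]
        · simp [h, x.2 i h])
      right_inv := fun y => funext fun i => by simp }
  rw [e.finrank_eq, Module.finrank_fintype_fun_eq_card, Fintype.card_coe]

theorem coordSub_inf (s t : Finset (Fin m ⊕ Fin m)) : coordSub (F := F) s ⊓ coordSub t = coordSub (s ∩ t) := by
  ext x
  constructor
  · rintro ⟨h1, h2⟩ i hi
    by_cases h : i ∈ s
    · exact h2 i fun h' => hi (Finset.mem_inter.2 ⟨h, h'⟩)
    · exact h1 i h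
  · intro h
    exact ⟨fun i hi => h i fun h' => hi (Finset.mem_inter.1 h').1, fun i hi => h i fun h' => hi (Finset.mem_inter.1 h').2⟩

theorem form_single_inl (v : Vec F m) (i : Fin m) :
    sympBil F m (Pi.single (Sum.inl i) 1) v = - v (Sum.inr i) := by
  rw [sympBil_apply, Cfsg.sympForm, single_dotProduct, one_mul, Matrix.J, Matrix.fromBlocks_mulVec]
  simp [Matrix.one_mulVec, Matrix.neg_mulVec]

theorem form_single_inr (v : Vec F m) (i : Fin m) :
    sympBil F m (Pi.single (Sum.inr i) 1) v = v (Sum.inl i) := by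
  rw [sympBil_apply, Cfsg.sympForm, single_dotProduct, one_mul, Matrix.J, Matrix.fromBlocks_mulVec]
  simp [Matrix.one_mulVec, Matrix.neg_mulVec]

theorem form_single_single {s : Finset (Fin m ⊕ Fin m)} (hs : ∀ i ∈ s, Sum.swap i ∉ s) {i j : Fin m ⊕ Fin m}
    (hi : i ∈ s) (hj : j ∈ s) : sympBil F m (Pi.single i 1) (Pi.single j 1) = 0 := by
  have h : j ≠ Sum.swap i := fun h => hs i hi (h ▸ hj)
  rcases i with i | i
  · rw [form_single_inl, Pi.single_apply, if_neg (fun e => h (by rw [← e]; rfl)), neg_zero]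
  · rw [form_single_inr, Pi.single_apply, if_neg (fun e => h (by rw [← e]; rfl))]

theorem perp_coordSub (s : Finset (Fin m ⊕ Fin m)) :
    perp (sympBil F m) (coordSub s) = coordSub (Finset.univ.filter fun i => Sum.swap i ∉ s) := by
  classical
  ext x
  rw [mem_perp, mem_coordSub]
  constructor
  · intro h i hi
    simp only [Finset.mem_filter, Finset.mem_univ, true_and, not_not] at hi
    have h1 := h (Pi.single (Sum.swap i) 1) fun j hj => by
      rw [Pi.single_apply, if_neg]; rintro rfl; exact hj hi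
    rcases i with i | i
    · rw [Sum.swap_inl, form_single_inr] at h1; exact h1
    · rw [Sum.swap_inr, form_single_inl, neg_eq_zero] at h1; exact h1
  · intro h w hw
    have e : w = ∑ i ∈ s, w i • (Pi.single i 1 : Vec F m) := by
      funext j
      simp only [Finset.sum_apply, Pi.smul_apply, Pi.single_apply, smul_eq_mul, mul_ite, mul_one, mul_zero,
        Finset.sum_ite_eq]
      split_ifs with h'
      · rfl
      · exact hw j h'
    rw [e, map_sum, LinearMap.sum_apply]
    refine Finset.sum_eq_zero fun i hi => ?_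
    rw [map_smul, LinearMap.smul_apply]
    have h1 := h (Sum.swap i) (by simpa using hi)
    rcases i with i | i
    · rw [form_single_inl, show x (Sum.inr i) = 0 from h1, neg_zero, smul_zero]
    · rw [form_single_inr, show x (Sum.inl i) = 0 from h1, smul_zero]

theorem coordSub_isotropic {s : Finset (Fin m ⊕ Fin m)} (hs : ∀ i ∈ s, Sum.swap i ∉ s) :
    ∀ a ∈ coordSub (F := F) s, ∀ b ∈ coordSub (F := F) s, sympBil F m a b = 0 := by
  intro a ha b hb
  have h : b ∈ perp (sympBil F m) (coordSub s) := by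
    rw [perp_coordSub]
    intro i hi
    simp only [Finset.mem_filter, Finset.mem_univ, true_and, not_not] at hi
    exact hb i fun h => hs i h hi
  exact mem_perp.1 h a ha

/-- Totally isotropic subspaces of equal dimension are conjugate. -/
theorem exists_map_isotropic (W W' : Submodule F (Vec F m)) (hW : ∀ a ∈ W, ∀ b ∈ W, sympBil F m a b = 0)
    (hW' : ∀ a ∈ W', ∀ b ∈ W', sympBil F m a b = 0) (h : Module.finrank F W = Module.finrank F W') :
    ∃ t : Spm, W.map (Matrix.toLin' (𝕄 t)) = W' := by
  let a : Fin (Module.finrank F W) → Vec F m := fun i => (Module.finBasis F W i : W)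
  let b : Fin (Module.finrank F W) → Vec F m := fun i => (Module.finBasisOfFinrankEq F W' h.symm i : W')
  have ha : LinearIndependent F a := (Module.finBasis F W).linearIndependent.map' W.subtype W.ker_subtype
  have hb : LinearIndependent F b := (Module.finBasisOfFinrankEq F W' h.symm).linearIndependent.map' W'.subtype W'.ker_subtype
  obtain ⟨t, ht⟩ := witt_family_sp ha hb (fun i j => hW _ (Subtype.prop _) _ (Subtype.prop _))
    (fun i j => hW' _ (Subtype.prop _) _ (Subtype.prop _))
  refine ⟨t, Submodule.eq_of_le_of_finrank_eq ?_ (((Submodule.equivMapOfInjective _ (sp_injective t) W).finrank_eq.symm).trans h)⟩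
  rintro _ ⟨x, hx, rfl⟩
  have hsum := congrArg Subtype.val ((Module.finBasis F W).sum_repr ⟨x, hx⟩)
  rw [AddSubmonoidClass.coe_finsetSum] at hsum
  change _ = x at hsum
  rw [← hsum, map_sum]
  refine Submodule.sum_mem _ fun i _ => ?_
  rw [Submodule.coe_smul, map_smul, Matrix.toLin'_apply, ht]
  exact Submodule.smul_mem _ _ (Subtype.prop _)

/-- The invariant of a translate. -/
noncomputable def relDims (W : Submodule F (Vec F m)) (t : Spm) : ℕ × ℕ :=
  (Module.finrank F ↥(W ⊓ W.map (Matrix.toLin' (𝕄 t))),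
    Module.finrank F ↥(W ⊓ perp (sympBil F m) (W.map (Matrix.toLin' (𝕄 t)))))

theorem perp_map (u : Spm) (X : Submodule F (Vec F m)) :
    (perp (sympBil F m) X).map (Matrix.toLin' (𝕄 u)) = perp (sympBil F m) (X.map (Matrix.toLin' (𝕄 u))) := by
  ext x
  constructor
  · rintro ⟨y, hy, rfl⟩
    refine mem_perp.2 fun w hw => ?_
    obtain ⟨z, hz, rfl⟩ := hw
    rw [Matrix.toLin'_apply, Matrix.toLin'_apply, form_mulVec]
    exact mem_perp.1 hy z hz
  · intro hx
    refine ⟨(𝕄 (u⁻¹ : Spm)) *ᵥ x, mem_perp.2 fun z hz => ?_, ?_⟩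
    · rw [← form_mulVec u, Matrix.mulVec_mulVec, sp_mul_inv, Matrix.one_mulVec]
      exact mem_perp.1 hx _ ⟨z, hz, rfl⟩
    · rw [Matrix.toLin'_apply, Matrix.mulVec_mulVec, sp_mul_inv, Matrix.one_mulVec]

theorem relDims_eq {W : Submodule F (Vec F m)} {s t u : Spm} (hu : W.map (Matrix.toLin' (𝕄 u)) = W)
    (h : (W.map (Matrix.toLin' (𝕄 s))).map (Matrix.toLin' (𝕄 u)) = W.map (Matrix.toLin' (𝕄 t))) :
    relDims W s = relDims W t := by
  unfold relDims
  refine Prod.ext ?_ ?_ <;> show Module.finrank F _ = Module.finrank F _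
  · rw [(Submodule.equivMapOfInjective _ (sp_injective u) _).finrank_eq, Submodule.map_inf _ (sp_injective u), hu, h]
  · rw [(Submodule.equivMapOfInjective _ (sp_injective u) _).finrank_eq, Submodule.map_inf _ (sp_injective u), hu,
      perp_map, h]

theorem psp_move_perp {P0 P Q : Pt F m} (hP : P ≠ P0) (hQ : Q ≠ P0)
    (h : sympBil F m P0.rep P.rep = 0 ↔ sympBil F m P0.rep Q.rep = 0) :
    ∃ k : PSpm, k • P0 = P0 ∧ k • P = Q := by
  set v := P0.rep
  have hv : v ≠ 0 := rep_nonzero P0
  have hind : ∀ R : Pt F m, R ≠ P0 → LinearIndependent F ![v, R.rep] := fun R hR => by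
    refine indep_of_mk_ne hv (rep_nonzero R) ?_
    rw [mk_rep, mk_rep]; exact hR.symm
  by_cases h0 : sympBil F m v P.rep = 0
  · obtain ⟨t, ht⟩ := witt_family_sp (hind P hP) (hind Q hQ)
      (fun i j => by
        fin_cases i <;> fin_cases j <;> simp [h0, (sympBil_isAlt m) v, (sympBil_isAlt m) P.rep,
          (sympBil_isAlt (F := F) m).isRefl _ _ h0])
      (fun i j => by
        fin_cases i <;> fin_cases j <;> simp [h.1 h0, (sympBil_isAlt m) v, (sympBil_isAlt m) Q.rep,
          (sympBil_isAlt (F := F) m).isRefl _ _ (h.1 h0)])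
    refine ⟨QuotientGroup.mk t, ?_, ?_⟩
    · conv_lhs => rw [← mk_rep P0, psp_smul_mk]
      conv_rhs => rw [← mk_rep P0]
      exact mk_congr _ _ 1 (by rw [one_smul]; exact (ht 0).symm)
    · conv_lhs => rw [← mk_rep P, psp_smul_mk]
      conv_rhs => rw [← mk_rep Q]
      exact mk_congr _ _ 1 (by rw [one_smul]; exact (ht 1).symm)
  · have h1 : sympBil F m v Q.rep ≠ 0 := fun e => h0 (h.2 e)
    obtain ⟨A, -, hA1, hA2⟩ := spGL_exists_pair m (u := v) (v := (sympBil F m v P.rep)⁻¹ • P.rep) (u' := v)
      (v' := (sympBil F m v Q.rep)⁻¹ • Q.rep)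
      (by rw [← sympBil_apply, map_smul, smul_eq_mul, inv_mul_cancel₀ h0])
      (by rw [← sympBil_apply, map_smul, smul_eq_mul, inv_mul_cancel₀ h1])
    refine ⟨QuotientGroup.mk A, ?_, ?_⟩
    · conv_lhs => rw [← mk_rep P0, psp_smul_mk]
      conv_rhs => rw [← mk_rep P0]
      exact mk_congr _ _ 1 (by rw [one_smul]; exact hA1.symm)
    · conv_lhs => rw [← mk_rep P, psp_smul_mk]
      conv_rhs => rw [← mk_rep Q]
      refine mk_congr _ _ ((sympBil F m v P.rep) * (sympBil F m v Q.rep)⁻¹) ?_
      rw [mul_smul, ← hA2, Matrix.mulVec_smul, smul_smul, mul_inv_cancel₀ h0, one_smul]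

theorem lift_stab {α : MulAut PSpm} {P0 : Pt F m} {W : Submodule F (Vec F m)}
    (hα : (stabilizer PSpm P0).map α.toMonoidHom = stabSub W) (x : PSpm) :
    x • P0 = P0 ↔ α x ∈ stabSub W := by
  rw [← hα, ← mem_stabilizer_iff]
  exact (Subgroup.mem_map_iff_mem (f := α.toMonoidHom) α.injective).symm

theorem same_class {α : MulAut PSpm} {P0 : Pt F m} {W : Submodule F (Vec F m)}
    (hα : (stabilizer PSpm P0).map α.toMonoidHom = stabSub W) (s t : Spm)
    (hs : W.map (Matrix.toLin' (𝕄 s)) ≠ W) (ht : W.map (Matrix.toLin' (𝕄 t)) ≠ W)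
    (h : sympBil F m P0.rep (α.symm (QuotientGroup.mk s) • P0).rep = 0 ↔
      sympBil F m P0.rep (α.symm (QuotientGroup.mk t) • P0).rep = 0) :
    relDims W s = relDims W t := by
  have hmov : ∀ r : Spm, W.map (Matrix.toLin' (𝕄 r)) ≠ W → α.symm (QuotientGroup.mk r) • P0 ≠ P0 := fun r hr e => by
    rw [lift_stab hα, α.apply_symm_apply, mk_mem_stabSub_iff] at e
    exact hr e
  obtain ⟨k, hk1, hk2⟩ := psp_move_perp (hmov s hs) (hmov t ht) h
  obtain ⟨u, hu⟩ := QuotientGroup.mk_surjective (α k)
  have huW : W.map (Matrix.toLin' (𝕄 u)) = W := by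
    rw [← mk_mem_stabSub_iff, hu]; exact (lift_stab hα k).1 hk1
  have h3 : ((α.symm (QuotientGroup.mk t))⁻¹ * k * α.symm (QuotientGroup.mk s)) • P0 = P0 := by
    rw [mul_smul, mul_smul, hk2, inv_smul_smul]
  rw [lift_stab hα, map_mul, map_mul, map_inv, α.apply_symm_apply, α.apply_symm_apply, ← hu] at h3
  change (QuotientGroup.mk (t⁻¹ * u * s) : PSpm) ∈ stabSub W at h3
  rw [mk_mem_stabSub_iff] at h3
  refine relDims_eq huW ?_
  conv_rhs => rw [← h3]
  rw [← Submodule.map_comp, ← Submodule.map_comp, ← Matrix.toLin'_mul, ← Matrix.toLin'_mul]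
  congr 2
  show _ = 𝕄 (t * (t⁻¹ * u * s) : Spm)
  rw [← mul_assoc, mul_inv_cancel_left]; rfl

variable [Finite F]

/-- The subspace is a point, or a line of a four dimensional space. -/
theorem dim_isotropic (α : MulAut PSpm) (P0 : Pt F m) (W : Submodule F (Vec F m)) (hbot : W ≠ ⊥)
    (hiso : ∀ a ∈ W, ∀ b ∈ W, sympBil F m a b = 0) (hα : (stabilizer PSpm P0).map α.toMonoidHom = stabSub W) :
    Module.finrank F W = 1 ∨ (m = 2 ∧ Module.finrank F W = 2) := by
  classical
  set k := Module.finrank F W
  have hk0 : k ≠ 0 := fun h => hbot (Submodule.finrank_eq_zero.1 h)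
  have hkm : k ≤ m := by
    have hle : W ≤ perp (sympBil F m) W := fun b hb => mem_perp.2 fun a ha => hiso a ha b hb
    have h1 := Submodule.finrank_mono hle
    have h2 : Module.finrank F (perp (sympBil F m) W) = 2 * m - k := by
      exact finrank_perp_sp W
    change k ≤ _ at h1
    have h3 : k ≤ 2 * m - k := h1.trans (le_of_eq h2)
    omega
  by_contra hcon
  simp only [not_or, not_and] at hcon
  -- three translates
  obtain ⟨s0, hs0, hc0, s, hs, hc, hd⟩ : ∃ s0 : Finset (Fin m ⊕ Fin m), (∀ i ∈ s0, Sum.swap i ∉ s0) ∧ s0.card = k ∧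
      ∃ s : Fin 3 → Finset (Fin m ⊕ Fin m), (∀ a, ∀ i ∈ s a, Sum.swap i ∉ s a) ∧ (∀ a, (s a).card = k) ∧
        Function.Injective (fun a => ((s0 ∩ s a).card,
          (s0 ∩ Finset.univ.filter fun i => Sum.swap i ∉ s a).card)) ∧ ∀ a, (s0 ∩ s a).card ≠ k := by
    rcases Nat.lt_or_ge k 3 with hk3 | hk3
    · have hk2 : k = 2 := by omega
      have hm3 : 3 ≤ m := by rcases Nat.lt_or_ge m 3 with h | h <;> [(exact absurd hk2 (hcon.2 (by omega))); exact h]
      let a0 : Fin m := ⟨0, by omega⟩
      let a1 : Fin m := ⟨1, by omega⟩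
      let a2 : Fin m := ⟨2, by omega⟩
      have n01 : a0 ≠ a1 := by simp [a0, a1]
      have n02 : a0 ≠ a2 := by simp [a0, a2]
      have n12 : a1 ≠ a2 := by simp [a1, a2]
      refine ⟨{Sum.inl a0, Sum.inl a1}, ?_, by simp [n01, hk2],
        ![{Sum.inl a0, Sum.inl a2}, {Sum.inl a0, Sum.inr a1}, {Sum.inr a0, Sum.inr a1}], ?_, ?_, ?_, ?_⟩
      · simp
      · intro a; fin_cases a <;> simp [n01, n01.symm]
      · intro a; fin_cases a <;> simp [n01, n02, hk2]
      · intro a b hab
        fin_cases a <;> fin_cases b <;>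
          simp [Finset.filter_insert, Finset.inter_filter, Finset.insert_inter_distrib, Finset.inter_comm,
            Finset.filter_singleton, n01, n01.symm, n02, n02.symm, n12, n12.symm] at hab ⊢
      · intro a
        fin_cases a <;> simp [Finset.insert_inter_of_mem, n01, n01.symm, n02.symm, n12, n12.symm, hk2]
    · let f : ℕ → Fin k → Fin m ⊕ Fin m := fun j i =>
        if (i : ℕ) < j then Sum.inr (Fin.castLE hkm i) else Sum.inl (Fin.castLE hkm i)
      have hf : ∀ j, Function.Injective (f j) := fun j i i' h => by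
        simp only [f] at h
        split_ifs at h <;> simp_all
      refine ⟨Finset.univ.image (f 0), ?_, by rw [Finset.card_image_of_injective _ (hf 0), Finset.card_univ, Fintype.card_fin],
        fun a => Finset.univ.image (f ((a : ℕ) + 1)), ?_, fun a => by
          rw [Finset.card_image_of_injective _ (hf _), Finset.card_univ, Fintype.card_fin], ?_⟩
      · intro i hi; simp [f] at hi ⊢
        obtain ⟨x, rfl⟩ := hi
        simp
      · intro a i hi
        simp only [Finset.mem_image, Finset.mem_univ, true_and] at hi ⊢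
        rintro ⟨y, hy⟩
        obtain ⟨x, rfl⟩ := hi
        simp only [f] at hy
        split_ifs at hy with h1 h2 h3 <;> simp at hy <;> omega
      have hinter : ∀ j, j ≤ k → ((Finset.univ.image (f 0)) ∩ Finset.univ.image (f j)).card = k - j := by
        intro j hj
        have e : (Finset.univ.image (f 0)) ∩ Finset.univ.image (f j) =
            (Finset.univ.filter fun i : Fin k => j ≤ (i : ℕ)).image (f 0) := by
          ext z
          simp only [Finset.mem_inter, Finset.mem_image, Finset.mem_univ, true_and, Finset.mem_filter]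
          constructor
          · rintro ⟨⟨x, rfl⟩, y, hy⟩
            simp only [f] at hy
            refine ⟨x, ?_, rfl⟩
            split_ifs at hy with h1 <;> simp at hy <;> omega
          · rintro ⟨x, hx, rfl⟩
            exact ⟨⟨x, rfl⟩, x, by simp [f, Nat.not_lt.2 hx]⟩
        rw [e, Finset.card_image_of_injective _ (hf 0)]
        have e2 : (Finset.univ.filter fun i : Fin k => j ≤ (i : ℕ)) =
            (Finset.univ.image fun i : Fin (k - j) => (⟨j + i, by omega⟩ : Fin k)) := by
          ext i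
          simp only [Finset.mem_filter, Finset.mem_univ, true_and, Finset.mem_image]
          exact ⟨fun h => ⟨⟨i - j, by omega⟩, Fin.ext (by simp; omega)⟩, fun ⟨x, hx⟩ => by rw [← hx]; simp⟩
        rw [e2, Finset.card_image_of_injective _ (fun x y h => Fin.ext (by simpa [Fin.ext_iff] using h)),
          Finset.card_univ, Fintype.card_fin]
      refine ⟨fun a b hab => ?_, fun a => ?_⟩
      · have h1 := congrArg Prod.fst hab
        simp only at h1
        rw [hinter _ (by omega), hinter _ (by omega)] at h1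
        exact Fin.ext (by omega)
      · rw [hinter _ (by omega)]; omega
  obtain ⟨g, hg⟩ := exists_map_isotropic W (coordSub s0) hiso (coordSub_isotropic hs0) (by rw [finrank_coordSub, hc0])
  have hts : ∀ a, ∃ t : Spm, W.map (Matrix.toLin' (𝕄 t)) =
      (coordSub (F := F) (s a)).map (Matrix.toLin' (𝕄 (g⁻¹ : Spm))) := fun a => by
    obtain ⟨t, ht⟩ := exists_map_isotropic W ((coordSub (F := F) (s a)).map (Matrix.toLin' (𝕄 (g⁻¹ : Spm)))) hiso
      (by
        rintro _ ⟨x, hx, rfl⟩ _ ⟨y, hy, rfl⟩
        rw [Matrix.toLin'_apply, Matrix.toLin'_apply, form_mulVec]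
        exact coordSub_isotropic (hs a) x hx y hy)
      (by rw [← (Submodule.equivMapOfInjective _ (sp_injective _) _).finrank_eq, finrank_coordSub, hc a])
    exact ⟨t, ht⟩
  choose t ht using hts
  have hg' : W = (coordSub (F := F) s0).map (Matrix.toLin' (𝕄 (g⁻¹ : Spm))) := by
    rw [← hg, ← Submodule.map_comp, ← Matrix.toLin'_mul, sp_inv_mul, Matrix.toLin'_one, Submodule.map_id]
  have hdims : ∀ a, relDims W (t a) = ((s0 ∩ s a).card, (s0 ∩ Finset.univ.filter fun i => Sum.swap i ∉ s a).card) := by
    intro a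
    unfold relDims
    rw [ht a, hg', ← perp_map, ← Submodule.map_inf _ (sp_injective _), ← Submodule.map_inf _ (sp_injective _),
      ← (Submodule.equivMapOfInjective _ (sp_injective _) _).finrank_eq,
      ← (Submodule.equivMapOfInjective _ (sp_injective _) _).finrank_eq, perp_coordSub, coordSub_inf, coordSub_inf,
      finrank_coordSub, finrank_coordSub]
  have hne : ∀ a, W.map (Matrix.toLin' (𝕄 (t a))) ≠ W := fun a e => by
    have h1 := congrArg Prod.fst (hdims a)
    simp only [relDims] at h1
    rw [e, inf_idem] at h1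
    exact hd.2 a h1.symm
  let P : Fin 3 → Prop := fun a => sympBil F m P0.rep (α.symm (QuotientGroup.mk (t a)) • P0).rep = 0
  have key : ∀ a b, (P a ↔ P b) → a = b := fun a b hab => hd.1 (by
    simp only; rw [← hdims, ← hdims]; exact same_class hα _ _ (hne a) (hne b) hab)
  by_cases h0 : P 0 <;> by_cases h1 : P 1 <;> by_cases h2 : P 2
  all_goals first
    | exact absurd (key 0 1 (by tauto)) (by decide)
    | exact absurd (key 0 2 (by tauto)) (by decide)
    | exact absurd (key 1 2 (by tauto)) (by decide)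

end CfsgLib.KnownC.AutPSp
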