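import Cfsg.Agent.Lib.KnownC.AutPSp.Action

set_option autoImplicit false
set_option linter.unusedSectionVars false

/-! The image of a point stabiliser is the stabiliser of a totally isotropic subspace. -/

namespace CfsgLib.KnownC.AutPSp

open Projectivization Matrix MulAction CfsgLib.Classical

variable {F : Type*} [Field F] {m : ℕ}

local notation "Spm" => Matrix.symplecticGroup (Fin m) F
local notation "PSpm" => Cfsg.PSp m F
local notation "𝕄" s => (s : Matrix (Fin m ⊕ Fin m) (Fin m ⊕ Fin m) F)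

/-- The symplectic transvection as an element of the symplectic group. -/
def spT (v : Vec F m) (c : F) : Spm := ⟨Cfsg.sympTransvection m v c, sympTransvection_mem m v c⟩

theorem spT_mulVec (v : Vec F m) (c : F) (x : Vec F m) :
    (𝕄 (spT v c)) *ᵥ x = x + (c * sympBil F m x v) • v := by
  show Cfsg.sympTransvection m v c *ᵥ x = _
  rw [sympTransvection_mulVec, tv_apply]

theorem spT_mul (v : Vec F m) (c d : F) : spT v c * spT v d = spT v (c + d) := by
  refine Subtype.ext (Matrix.ext_iff_mulVec.2 fun x => ?_)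
  show ((𝕄 (spT v c)) * (𝕄 (spT v d))) *ᵥ x = _
  rw [← Matrix.mulVec_mulVec, spT_mulVec, spT_mulVec, spT_mulVec, map_add, LinearMap.add_apply, map_smul,
    LinearMap.smul_apply, (sympBil_isAlt m) v, smul_zero, add_zero]
  module

theorem spT_zero (v : Vec F m) : spT v 0 = (1 : Spm) := by
  refine Subtype.ext (Matrix.ext_iff_mulVec.2 fun x => ?_)
  rw [spT_mulVec]
  simp

theorem spT_pow (v : Vec F m) (c : F) (k : ℕ) : spT v c ^ k = spT v ((k : F) * c) := by
  induction k with
  | zero => rw [pow_zero, Nat.cast_zero, zero_mul, spT_zero]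
  | succ k ih => rw [pow_succ, ih, spT_mul, Nat.cast_succ, add_mul, one_mul]

theorem spT_conj (g : Spm) (v : Vec F m) (c : F) : g * spT v c * g⁻¹ = spT ((𝕄 g) *ᵥ v) c := by
  refine Subtype.ext (Matrix.ext_iff_mulVec.2 fun x => ?_)
  show (((𝕄 g) * (𝕄 (spT v c))) * (𝕄 (g⁻¹ : Spm))) *ᵥ x = _
  rw [← Matrix.mulVec_mulVec, ← Matrix.mulVec_mulVec, spT_mulVec, spT_mulVec, Matrix.mulVec_add,
    Matrix.mulVec_smul, Matrix.mulVec_mulVec, sp_mul_inv, Matrix.one_mulVec]
  congr 2
  conv_lhs => rw [← form_mulVec g, Matrix.mulVec_mulVec, sp_mul_inv, Matrix.one_mulVec]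

theorem spT_smul (v : Vec F m) (a c : F) : spT (a • v) c = spT v (a * a * c) := by
  refine Subtype.ext (Matrix.ext_iff_mulVec.2 fun x => ?_)
  rw [spT_mulVec, spT_mulVec, map_smul, smul_smul, smul_eq_mul]
  congr 2
  ring

theorem spT_ne_center {v : Vec F m} (hv : v ≠ 0) {c : F} (hc : c ≠ 0) :
    spT v c ∉ Subgroup.center Spm := by
  intro h
  obtain ⟨u, hu⟩ := alt_exists_partner (sympBil_nondegenerate (F := F) m).1 hv
  have h1 := spT_mulVec v c u
  have huv : sympBil F m u v = -1 := by rw [alt_swap (sympBil_isAlt m), hu]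
  have hvv := spT_mulVec v c v
  rw [(sympBil_isAlt m) v, mul_zero, zero_smul, add_zero] at hvv
  rcases sp_center_eq m h with e | e <;> rw [e] at h1 hvv
  · rw [Matrix.one_mulVec, left_eq_add, smul_eq_zero, huv] at h1
    simp [hc, hv] at h1
  · rw [Matrix.neg_mulVec, Matrix.one_mulVec] at h1 hvv
    have h2 : (2 : F) • u = (c * 1) • v := by
      rw [huv] at h1
      have := congrArg (fun x => x + u) h1
      simp only [neg_add_cancel] at this
      rw [eq_comm, ← sub_eq_zero] at this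
      rw [← sub_eq_zero, ← this]
      module
    have h3 := congrArg (sympBil F m v) h2
    rw [map_smul, map_smul, hu, (sympBil_isAlt m) v, smul_zero, smul_eq_mul, mul_one] at h3
    rw [h3, zero_smul, eq_comm, smul_eq_zero, mul_one] at h2
    exact h2.elim hc hv

variable [Finite F]

theorem exists_fixed_isotropic (α : MulAut PSpm) (P0 : Pt F m) :
    ∃ W : Submodule F (Vec F m), W ≠ ⊥ ∧ (∀ a ∈ W, ∀ b ∈ W, sympBil F m a b = 0) ∧
      (stabilizer PSpm P0).map α.toMonoidHom ≤ stabSub W := by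
  classical
  letI : Fintype F := Fintype.ofFinite F
  obtain ⟨p, _⟩ := CharP.exists F
  haveI hp : Fact p.Prime := ⟨CharP.char_is_prime F p⟩
  set v0 := P0.rep
  have hv0 : v0 ≠ 0 := rep_nonzero P0
  let U : F → PSpm := fun c => α (QuotientGroup.mk (spT v0 c))
  have hUmul : ∀ c d, U c * U d = U (c + d) := fun c d => by
    simp only [U]; rw [← map_mul, ← QuotientGroup.mk_mul, spT_mul]
  have hU0 : U 0 = 1 := by simp only [U]; rw [spT_zero, QuotientGroup.mk_one, map_one]
  have hneg : ∀ c, (U c)⁻¹ = U (-c) := fun c => inv_eq_of_mul_eq_one_right (by rw [hUmul, add_neg_cancel, hU0])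
  have hUp : ∀ c, U c ^ p = 1 := fun c => by
    simp only [U]
    rw [← map_pow, ← QuotientGroup.mk_pow, spT_pow, CharP.cast_eq_zero F p, zero_mul, spT_zero, QuotientGroup.mk_one,
      map_one]
  have hzp : ∀ z ∈ Subgroup.center Spm, z ^ p = 1 → z = 1 := by
    intro z hz h
    rcases sp_center_eq m hz with e | e
    · exact Subtype.ext e
    · have h' := congrArg (fun x : Spm => (𝕄 x)) h
      simp only [SubmonoidClass.coe_pow, OneMemClass.coe_one, e] at h'
      rcases hp.out.eq_two_or_odd' with h2 | hodd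
      · subst h2
        refine Subtype.ext ?_
        rw [e]
        ext i j
        simp [Matrix.neg_apply, CharTwo.neg_eq]
      · rw [hodd.neg_one_pow] at h'
        exact Subtype.ext (e.trans h')
  -- the subgroup of lifts of `p`-power order
  let S : Subgroup Spm :=
    { carrier := {g | (∃ c, (QuotientGroup.mk g : PSpm) = U c) ∧ g ^ p = 1}
      one_mem' := ⟨⟨0, by rw [hU0]; rfl⟩, one_pow p⟩
      inv_mem' := fun {g} ⟨⟨c, hc⟩, hg⟩ => ⟨⟨-c, by rw [QuotientGroup.mk_inv, hc, hneg]⟩, by rw [inv_pow, hg, inv_one]⟩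
      mul_mem' := fun {g h} hg' hh' => by
        obtain ⟨⟨c, hc⟩, hg⟩ := hg'
        obtain ⟨⟨d, hd⟩, hh⟩ := hh'
        have hgh : (QuotientGroup.mk (g * h * g⁻¹ * h⁻¹) : PSpm) = 1 := by
          simp only [QuotientGroup.mk_mul, QuotientGroup.mk_inv, hc, hd, hneg, hUmul]
          rw [show c + d + -c + -d = 0 by ring, hU0]
        have hz : g * h * g⁻¹ * h⁻¹ ∈ Subgroup.center Spm := (QuotientGroup.eq_one_iff _).1 hgh
        have hconj : (g * h * g⁻¹) ^ p = 1 := by
          rw [← MulAut.conj_apply, ← map_pow, hh, map_one]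
        have h1 : g * h * g⁻¹ * h⁻¹ = 1 := by
          refine hzp _ hz ?_
          have hcomm : Commute (g * h * g⁻¹ * h⁻¹) h := (Subgroup.mem_center_iff.1 hz h).symm
          have e : (g * h * g⁻¹ * h⁻¹ * h) ^ p = (g * h * g⁻¹ * h⁻¹) ^ p * h ^ p := hcomm.mul_pow p
          rw [hh, mul_one, inv_mul_cancel_right, hconj] at e
          exact e.symm
        have hcm : Commute g h := by
          show g * h = h * g
          rw [mul_inv_eq_one] at h1
          conv_rhs => rw [← h1]
          group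
        exact ⟨⟨c + d, by rw [QuotientGroup.mk_mul, hc, hd, hUmul]⟩, by rw [hcm.mul_pow, hg, hh, one_mul]⟩ }
  have hlift : ∀ c, ∃ g ∈ S, (QuotientGroup.mk g : PSpm) = U c := by
    intro c
    obtain ⟨g, hg⟩ := QuotientGroup.mk_surjective (U c)
    have hgp : g ^ p ∈ Subgroup.center Spm := by
      rw [← QuotientGroup.eq_one_iff, QuotientGroup.mk_pow, hg, hUp]
    rcases sp_center_eq m hgp with e | e
    · exact ⟨g, ⟨⟨c, hg⟩, Subtype.ext e⟩, hg⟩
    · rcases hp.out.eq_two_or_odd' with h2 | hodd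
      · refine ⟨g, ⟨⟨c, hg⟩, Subtype.ext (e.trans ?_)⟩, hg⟩
        subst h2
        ext i j
        simp [Matrix.neg_apply, CharTwo.neg_eq]
      · refine ⟨(g ^ p)⁻¹ * g, ⟨⟨c, ?_⟩, ?_⟩, ?_⟩
        · rw [QuotientGroup.mk_mul, (QuotientGroup.eq_one_iff _).2 (inv_mem hgp), one_mul, hg]
        · have hsq : g ^ p * g ^ p = 1 := Subtype.ext (by
            show (𝕄 (g ^ p : Spm)) * (𝕄 (g ^ p : Spm)) = 1
            rw [e, neg_mul_neg, one_mul])
          have hpp : (g ^ p) ^ p = g ^ p := by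
            obtain ⟨k, hk⟩ := hodd
            conv_lhs => rw [show p = 2 * k + 1 from hk]
            rw [pow_succ, pow_mul, sq, show g ^ (2 * k + 1) = g ^ p by rw [← hk], hsq, one_pow, one_mul]
          have hcomm : Commute (g ^ p)⁻¹ g := ((Commute.self_pow g p).symm).inv_left
          rw [hcomm.mul_pow, inv_pow, hpp, inv_mul_cancel]
        · rw [QuotientGroup.mk_mul, (QuotientGroup.eq_one_iff _).2 (inv_mem hgp), one_mul, hg]
  have hS : IsPGroup p S := fun g => ⟨1, Subtype.ext (by rw [pow_one, Subgroup.coe_pow]; exact g.2.2)⟩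
  -- fixed vectors in invariant subspaces
  have hfixD : ∀ D : Submodule F (Vec F m), D ≠ ⊥ → (∀ g ∈ S, ∀ x ∈ D, (𝕄 g) *ᵥ x ∈ D) →
      ∃ x ∈ D, x ≠ 0 ∧ ∀ g ∈ S, (𝕄 g) *ᵥ x = x := by
    intro D hD hinv
    let act : MulAction S D :=
      { smul := fun g x => ⟨(𝕄 (g : Spm)) *ᵥ (x : Vec F m), hinv g g.2 x x.2⟩
        one_smul := fun x => Subtype.ext (Matrix.one_mulVec _)
        mul_smul := fun g h x => Subtype.ext (by
          show (𝕄 ((g * h : S) : Spm)) *ᵥ (x : Vec F m) = (𝕄 (g : Spm)) *ᵥ ((𝕄 (h : Spm)) *ᵥ (x : Vec F m))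
          rw [Matrix.mulVec_mulVec]; rfl) }
    have hdvd : p ∣ Nat.card D := by
      rw [Module.natCard_eq_pow_finrank (K := F) (V := D)]
      obtain ⟨f, -, hf⟩ := FiniteField.card F p
      refine dvd_pow ?_ (fun h0 => hD (Submodule.finrank_eq_zero.1 h0))
      rw [Nat.card_eq_fintype_card, hf]
      exact dvd_pow_self p f.ne_zero
    have h0 : (0 : D) ∈ fixedPoints S D := fun g => Subtype.ext (Matrix.mulVec_zero (𝕄 (g : Spm)))
    obtain ⟨x, hx, hx0⟩ := hS.exists_fixed_point_of_prime_dvd_card_of_fixed_point D hdvd h0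
    exact ⟨x, x.2, fun h => hx0 (Subtype.ext h.symm), fun g hg => congrArg Subtype.val (hx ⟨g, hg⟩)⟩
  let C : Submodule F (Vec F m) := ⨅ g : S, LinearMap.ker (Matrix.toLin' (𝕄 (g : Spm)) - LinearMap.id)
  have hC : ∀ x, x ∈ C ↔ ∀ g ∈ S, (𝕄 g) *ᵥ x = x := fun x => by
    simp [C, Submodule.mem_iInf, LinearMap.mem_ker, sub_eq_zero]
  have hA := sympBil_isAlt (F := F) m
  have hN := sympBil_nondegenerate (F := F) m
  refine ⟨C ⊓ perp (sympBil F m) C, ?_, fun a ha b hb => mem_perp.1 hb.2 a ha.1, ?_⟩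
  · intro hbot
    have hperp : perp (sympBil F m) C ≠ ⊥ := by
      intro h
      have hCtop : C = ⊤ := by
        rw [← perp_perp_eq hA.isRefl hN.2 C, h, eq_top_iff]
        intro x _
        exact mem_perp.2 fun w hw => by rw [(Submodule.mem_bot F).1 hw, map_zero, LinearMap.zero_apply]
      obtain ⟨g, hgS, hg⟩ := hlift 1
      have hg1 : g = 1 := Subtype.ext (Matrix.ext_iff_mulVec.2 fun x => by
        rw [(hC x).1 (hCtop ▸ Submodule.mem_top) g hgS]; simp)
      rw [hg1, QuotientGroup.mk_one, ← hU0] at hg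
      have h2 := α.injective hg
      rw [QuotientGroup.eq] at h2
      refine spT_ne_center hv0 (one_ne_zero (α := F)) ?_
      rw [spT_zero, inv_one, one_mul] at h2
      exact h2
    obtain ⟨x, hxD, hx0, hx⟩ := hfixD _ hperp (fun g hg x hx => mem_perp.2 fun w hw => by
      rw [← (hC w).1 hw g hg, form_mulVec]
      exact mem_perp.1 hx w hw)
    exact hx0 ((Submodule.mem_bot F).1 (hbot ▸ ⟨(hC x).2 hx, hxD⟩))
  · rintro _ ⟨y, hy, rfl⟩
    obtain ⟨t, ht⟩ := QuotientGroup.mk_surjective (α y)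
    show α y ∈ _
    rw [← ht, mk_mem_stabSub_iff]
    obtain ⟨s, rfl⟩ := QuotientGroup.mk_surjective y
    obtain ⟨a, ha⟩ : ∃ a : F, a • v0 = (𝕄 s) *ᵥ v0 := by
      have hy' := mem_stabilizer_iff.1 hy
      conv_lhs at hy' => rw [← mk_rep P0]
      conv_rhs at hy' => rw [← mk_rep P0]
      rw [psp_smul_mk] at hy'
      exact (mk_eq_mk_iff' F _ _ _ _).1 hy'
    have ha0 : a ≠ 0 := fun h => sp_ne_zero s hv0 (by rw [← ha, h, zero_smul])
    have hnorm : ∀ g ∈ S, t⁻¹ * g * t ∈ S := by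
      rintro g ⟨⟨c, hc⟩, hg⟩
      refine ⟨⟨a⁻¹ * a⁻¹ * c, ?_⟩, by
        have e : (t⁻¹ * g * t⁻¹⁻¹) ^ p = t⁻¹ * g ^ p * t⁻¹⁻¹ := by
          rw [← MulAut.conj_apply, ← MulAut.conj_apply, map_pow]
        rw [inv_inv] at e
        rw [e, hg, mul_one, inv_mul_cancel]⟩
      simp only [QuotientGroup.mk_mul, QuotientGroup.mk_inv, ht, hc, U, ← map_inv, ← map_mul]
      rw [← QuotientGroup.mk_inv, ← QuotientGroup.mk_mul, ← QuotientGroup.mk_mul]
      congr 2
      have hst := spT_conj s v0 (a⁻¹ * a⁻¹ * c)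
      rw [← ha, spT_smul, show a * a * (a⁻¹ * a⁻¹ * c) = c by field_simp] at hst
      rw [← hst]; group
    have hmap : ∀ x ∈ C, (𝕄 t) *ᵥ x ∈ C := fun x hx => (hC _).2 fun g hg => by
      have h2 := (hC x).1 hx _ (hnorm g hg)
      have h3 := congrArg (fun z => (𝕄 t) *ᵥ z) h2
      simp only [Matrix.mulVec_mulVec] at h3
      rw [Matrix.mulVec_mulVec, ← h3]
      congr 1
      show _ = 𝕄 (t * (t⁻¹ * g * t) : Spm)
      rw [← mul_assoc, mul_inv_cancel_left]; rfl
    refine Submodule.eq_of_le_of_finrank_eq ?_ (Submodule.equivMapOfInjective _ (sp_injective t) _).finrank_eq.symm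
    have hCmap : C.map (Matrix.toLin' (𝕄 t)) = C :=
      Submodule.eq_of_le_of_finrank_eq (by rintro _ ⟨x, hx, rfl⟩; exact hmap x hx)
        (Submodule.equivMapOfInjective _ (sp_injective t) _).finrank_eq.symm
    rintro _ ⟨x, hx, rfl⟩
    refine ⟨hmap x hx.1, mem_perp.2 fun w hw => ?_⟩
    obtain ⟨w', hw', rfl⟩ := hCmap.ge hw
    rw [Matrix.toLin'_apply, Matrix.toLin'_apply, form_mulVec]
    exact mem_perp.1 hx.2 w' hw'

theorem stabSub_point (P : Pt F m) : stabSub P.submodule = stabilizer PSpm P := by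
  ext x
  induction x using QuotientGroup.induction_on with
  | _ s =>
    rw [mk_mem_stabSub_iff, mem_stabilizer_iff]
    induction P using Projectivization.ind with
    | _ v hv =>
      rw [psp_smul_mk, submodule_mk, Submodule.map_span, Set.image_singleton]
      show Submodule.span F {(𝕄 s) *ᵥ v} = _ ↔ _
      rw [← submodule_mk _ (sp_ne_zero s hv), ← submodule_mk v hv]
      exact Projectivization.submodule_injective.eq_iff

theorem nontrivial_pt (hm : 1 ≤ m) : Nontrivial (Pt F m) := by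
  refine ⟨⟨Projectivization.mk F (Pi.single (Sum.inl ⟨0, hm⟩) 1) (by simp),
    Projectivization.mk F (Pi.single (Sum.inr ⟨0, hm⟩) 1) (by simp), fun h => ?_⟩⟩
  obtain ⟨a, ha⟩ := (mk_eq_mk_iff' F _ _ _ _).1 h
  have := congrFun ha (Sum.inl ⟨0, hm⟩)
  simp at this

/-- The image of a point stabiliser is the stabiliser of a totally isotropic subspace. -/
theorem exists_isotropic_stab (hm : 1 ≤ m) (α : MulAut PSpm) (P0 : Pt F m) :
    ∃ W : Submodule F (Vec F m), W ≠ ⊥ ∧ (∀ a ∈ W, ∀ b ∈ W, sympBil F m a b = 0) ∧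
      (stabilizer PSpm P0).map α.toMonoidHom = stabSub W := by
  obtain ⟨W, hbot, hiso, hle⟩ := exists_fixed_isotropic α P0
  refine ⟨W, hbot, hiso, ?_⟩
  haveI := nontrivial_pt (F := F) hm
  haveI := primitive (F := F) (m := m)
  have hco : IsCoatom (stabilizer PSpm P0) := (isCoatom_stabilizer_iff_preprimitive PSpm P0).2 inferInstance
  have hne : stabSub W ≠ (⊤ : Subgroup PSpm) := by
    intro h
    obtain ⟨w, hw, hw0⟩ := (Submodule.ne_bot_iff W).1 hbot
    obtain ⟨u, hu⟩ := alt_exists_partner (sympBil_nondegenerate (F := F) m).1 hw0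
    obtain ⟨A, hA⟩ := sp_transitive m hw0 (show u ≠ 0 from fun h0 => by simp [h0] at hu)
    have hm' := (mk_mem_stabSub_iff W A).1 (h ▸ Subgroup.mem_top _)
    have huW : u ∈ W := by rw [← hm', ← hA]; exact ⟨w, hw, rfl⟩
    rw [hiso w hw u huW] at hu
    exact zero_ne_one hu
  refine ((IsCoatom.le_iff_eq ?_ hne).1 hle).symm
  refine ⟨fun h => hco.1 ?_, fun K hK => ?_⟩
  · exact Subgroup.map_injective α.injective (h.trans (Subgroup.map_top_of_surjective _ α.surjective).symm)
  · have h1 : stabilizer PSpm P0 < K.comap α.toMonoidHom := by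
      rw [← Subgroup.map_lt_map_iff_of_injective (f := α.toMonoidHom) α.injective,
        Subgroup.map_comap_eq_self_of_surjective α.surjective]
      exact hK
    rw [← Subgroup.map_comap_eq_self_of_surjective (f := α.toMonoidHom) α.surjective K, hco.2 _ h1,
      Subgroup.map_top_of_surjective _ α.surjective]

end CfsgLib.KnownC.AutPSp
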